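import Groth.Agent.RootD.K221.Prop

/-!
# Finite root pairings over `ℤ`: partitions into closed symmetric subsets, chains of non-orthogonal roots
-/

set_option autoImplicit false

open RootPairing

namespace K221.Conn

open K221.Prop

section Partition

variable {ι M N : Type*} [AddCommGroup M] [AddCommGroup N] (P : RootPairing ι ℤ M N)

/-- The irreducibility condition used in the statements: no non-trivial partition of the roots into two
closed symmetric subsets. -/
def Irr : Prop :=
  ∀ R' : Set ι, RootD.IsClosedSub P R' → RootD.IsSymmSub P R' → RootD.IsClosedSub P R'ᶜ →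
    RootD.IsSymmSub P R'ᶜ → R' = ∅ ∨ R' = Set.univ

variable {P}

/-- For a partition into closed symmetric subsets, `α`, `β` and `α + β` lie in the same part. -/
theorem partition_add {R' : Set ι} (hc : RootD.IsClosedSub P R') (hs : RootD.IsSymmSub P R')
    (hc' : RootD.IsClosedSub P R'ᶜ) (hs' : RootD.IsSymmSub P R'ᶜ) {i j k : ι}
    (h : P.root k = P.root i + P.root j) :
    (i ∈ R' ∧ j ∈ R' ∧ k ∈ R') ∨ (i ∉ R' ∧ j ∉ R' ∧ k ∉ R') := by
  have hi : P.root i = P.root k + P.root (P.reflectionPerm j j) := by
    rw [root_neg, h, add_neg_cancel_right]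
  have hj : P.root j = P.root k + P.root (P.reflectionPerm i i) := by
    rw [root_neg, h]; abel
  by_cases h1 : i ∈ R' <;> by_cases h2 : j ∈ R'
  · exact Or.inl ⟨h1, h2, hc h1 h2 h⟩
  · exfalso
    by_cases h3 : k ∈ R'
    · exact h2 (hc h3 (hs h1) hj)
    · exact (hc' (i := k) (j := P.reflectionPerm j j) h3 (hs' h2) hi) h1
  · exfalso
    by_cases h3 : k ∈ R'
    · exact h1 (hc h3 (hs h2) hi)
    · exact (hc' (i := k) (j := P.reflectionPerm i i) h3 (hs' h1) hj) h2
  · exact Or.inr ⟨h1, h2, hc' (i := i) (j := j) h1 h2 h⟩

/-- If every root of `R'` is orthogonal to every root outside `R'`, then `R'` is closed and symmetric. -/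
theorem closedSymm_of_orthogonal {R' : Set ι} (h : ∀ i ∈ R', ∀ j ∉ R', P.pairing i j = 0) :
    RootD.IsClosedSub P R' ∧ RootD.IsSymmSub P R' := by
  constructor
  · intro i j k hi hj hk
    by_contra hn
    have h1 := pairing_eq_add_of_root_eq_add (l := k) hk
    rw [h i hi k hn, h j hj k hn, pairing_same] at h1
    omega
  · intro i hi
    by_contra hn
    have h1 := h i hi _ hn
    rw [pairing_reflectionPerm_self_right, pairing_same] at h1
    omega

theorem compl_closedSymm_of_orthogonal {R' : Set ι} (h : ∀ i ∈ R', ∀ j ∉ R', P.pairing i j = 0) :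
    RootD.IsClosedSub P R'ᶜ ∧ RootD.IsSymmSub P R'ᶜ := by
  apply closedSymm_of_orthogonal
  intro i hi j hj
  rw [Set.mem_compl_iff, not_not] at hj
  exact (pairing_zero_comm P).1 (h j hj i hi)

/-- An irreducible datum has no non-trivial partition into two mutually orthogonal subsets. -/
theorem Irr.eq_of_orthogonal (hirr : Irr P) {R' : Set ι} (h : ∀ i ∈ R', ∀ j ∉ R', P.pairing i j = 0) :
    R' = ∅ ∨ R' = Set.univ :=
  hirr R' (closedSymm_of_orthogonal h).1 (closedSymm_of_orthogonal h).2
    (compl_closedSymm_of_orthogonal h).1 (compl_closedSymm_of_orthogonal h).2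

/-- The class of a root under chains of non-orthogonal roots is orthogonal to its complement. -/
theorem class_orthogonal (i : ι) :
    ∀ j ∈ {k : ι | Relation.ReflTransGen (fun a b : ι => ¬ P.IsOrthogonal a b) i k},
    ∀ l ∉ {k : ι | Relation.ReflTransGen (fun a b : ι => ¬ P.IsOrthogonal a b) i k},
      P.pairing j l = 0 := by
  intro j hj l hl
  by_contra hn
  exact hl (Relation.ReflTransGen.tail hj (fun h => hn h.1))

/-- In an irreducible datum any two roots are joined by a chain of non-orthogonal roots. -/
theorem Irr.chain (hirr : Irr P) (i j : ι) :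
    Relation.ReflTransGen (fun a b : ι => ¬ P.IsOrthogonal a b) i j := by
  have h := hirr.eq_of_orthogonal (class_orthogonal (P := P) i)
  rcases h with h | h
  · have h2 : i ∈ {k : ι | Relation.ReflTransGen (fun a b : ι => ¬ P.IsOrthogonal a b) i k} :=
      Relation.ReflTransGen.refl
    rw [h] at h2
    exact absurd h2 (Set.notMem_empty i)
  · have h2 : j ∈ (Set.univ : Set ι) := Set.mem_univ j
    rw [← h] at h2
    exact h2

/-- A relation which holds for non-orthogonal pairs, is reflexive and transitive holds for all pairs of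
roots of an irreducible datum. -/
theorem Irr.induction (hirr : Irr P) {r : ι → ι → Prop} (hr : ∀ i, r i i)
    (ht : ∀ i j k, r i j → r j k → r i k) (h : ∀ i j, P.pairing i j ≠ 0 → r i j) (i j : ι) : r i j := by
  induction hirr.chain i j with
  | refl => exact hr i
  | tail _ hbc ih =>
    refine ht _ _ _ ih (h _ _ ?_)
    intro h0
    exact hbc ((isOrthogonal_iff P).2 h0)

variable [Finite ι]

/-- For a partition into closed symmetric subsets, the two parts are orthogonal. -/
theorem partition_pairing {R' : Set ι} (hc : RootD.IsClosedSub P R') (hs : RootD.IsSymmSub P R')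
    (hc' : RootD.IsClosedSub P R'ᶜ) (hs' : RootD.IsSymmSub P R'ᶜ) {i j : ι} (hi : i ∈ R')
    (hj : j ∉ R') : P.pairing i j = 0 := by
  have hnj : P.reflectionPerm j j ∉ R' := hs' hj
  rcases lt_trichotomy (P.pairing i j) 0 with h | h | h
  · exfalso
    obtain ⟨k, hk⟩ := exists_add P h (fun e => by
      rw [root_eq_neg_iff] at e
      exact hnj (e ▸ hi))
    rcases partition_add hc hs hc' hs' hk with h1 | h1
    · exact hj h1.2.1
    · exact h1.1 hi
  · exact h
  · exfalso
    obtain ⟨k, hk⟩ := exists_sub P h (fun e => hj (e ▸ hi))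
    have hk' : P.root k = P.root i + P.root (P.reflectionPerm j j) := by
      rw [hk, root_neg, sub_eq_add_neg]
    rcases partition_add hc hs hc' hs' hk' with h1 | h1
    · exact hnj h1.2.1
    · exact h1.1 hi

/-- The dual of an irreducible datum is irreducible. -/
theorem Irr.flip (hirr : Irr P) : Irr P.flip := by
  intro R' hc hs hc' hs'
  apply hirr.eq_of_orthogonal
  intro i hi j hj
  rw [pairing_zero_comm P]
  exact partition_pairing hc hs hc' hs' hi hj

/-- Weyl group orbits, by chains of reflections. -/
def Conj (P : RootPairing ι ℤ M N) : ι → ι → Prop :=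
  Relation.ReflTransGen (fun a b : ι => ∃ l : ι, b = P.reflectionPerm l a)

omit [Finite ι] in
/-- In an irreducible datum every orbit contains a root not orthogonal to a given one. -/
theorem Irr.exists_conj (hirr : Irr P) (i i₀ : ι) : ∃ j, Conj P i j ∧ P.pairing j i₀ ≠ 0 := by
  let C : Set ι := {k | ∀ j, Conj P i j → P.pairing k j = 0}
  have hC : ∀ k ∈ C, ∀ l ∉ C, P.pairing k l = 0 := by
    intro k hk l hl
    simp only [C, Set.mem_setOf_eq, not_forall] at hl
    obtain ⟨j, hj, hlj⟩ := hl
    have h1 := hk _ (Relation.ReflTransGen.tail hj ⟨l, rfl⟩)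
    have h2 : P.pairing k (P.reflectionPerm l j) =
        P.pairing k j - P.pairing l j * P.pairing k l := by
      rw [← root_coroot_eq_pairing, coroot_reflectionPerm, coreflection_apply_coroot, map_sub,
        map_smul, smul_eq_mul, root_coroot_eq_pairing, root_coroot_eq_pairing]
    rw [h2, hk j hj, zero_sub, neg_eq_zero, mul_eq_zero] at h1
    exact h1.resolve_left hlj
  have h := hirr.eq_of_orthogonal hC
  rcases h with h | h
  · have h2 : i₀ ∉ C := by rw [h]; exact Set.notMem_empty _
    simp only [C, Set.mem_setOf_eq, not_forall] at h2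
    obtain ⟨j, hj, hij⟩ := h2
    exact ⟨j, hj, fun h0 => hij ((pairing_zero_comm P).1 h0)⟩
  · exfalso
    have h2 : i ∈ C := by rw [h]; exact Set.mem_univ _
    have h3 := h2 i Relation.ReflTransGen.refl
    rw [pairing_same] at h3
    omega

omit [Finite ι] in
theorem Conj.rootForm_eq [Fintype ι] {i j : ι} (h : Conj P i j) :
    P.RootForm (P.root j) (P.root j) = P.RootForm (P.root i) (P.root i) := by
  induction h with
  | refl => rfl
  | tail _ hbc ih =>
    obtain ⟨l, rfl⟩ := hbc
    rw [root_reflectionPerm, rootForm_reflection_reflection_apply, ih]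

end Partition

end K221.Conn
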