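import Groth.Agent.RootD.K221.Conn

/-!
# The canonical forms of a finite root pairing over `ℤ`
-/

set_option autoImplicit false

open RootPairing

namespace K221.Form

open K221.Prop K221.Conn

variable {ι M N : Type*} [AddCommGroup M] [AddCommGroup N] (P : RootPairing ι ℤ M N) [Fintype ι]

theorem rootForm_pos (i : ι) : 0 < P.RootForm (P.root i) (P.root i) :=
  P.rootForm_pos_of_ne_zero (Submodule.subset_span (Set.mem_range_self i)) (P.ne_zero i)

theorem corootForm_pos (i : ι) : 0 < P.CorootForm (P.coroot i) (P.coroot i) :=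
  rootForm_pos P.flip i

theorem rootForm_symm (x y : M) : P.RootForm x y = P.RootForm y x :=
  P.rootForm_symmetric.eq x y

theorem corootForm_symm (x y : N) : P.CorootForm x y = P.CorootForm y x :=
  P.flip.rootForm_symmetric.eq x y

/-- `2 (x, α) = ⟨x, α^∨⟩ (α, α)`. -/
theorem two_mul_rootForm_root (x : M) (i : ι) :
    2 * P.RootForm x (P.root i) = P.toLinearMap x (P.coroot i) * P.RootForm (P.root i) (P.root i) := by
  have h := P.rootForm_self_smul_coroot i
  have h1 := congrArg (P.toLinearMap x) h
  rw [map_smul, map_nsmul, toLinearMap_apply_apply_Polarization, rootForm_symm P (P.root i) x,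
    smul_eq_mul, nsmul_eq_mul] at h1
  rw [mul_comm (P.toLinearMap x (P.coroot i)), h1]
  rfl

theorem two_mul_rootForm (i j : ι) :
    2 * P.RootForm (P.root i) (P.root j) = P.pairing i j * P.RootForm (P.root j) (P.root j) :=
  two_mul_rootForm_root P (P.root i) j

theorem pairing_mul_swap (i j : ι) :
    P.pairing i j * P.RootForm (P.root j) (P.root j) =
      P.pairing j i * P.RootForm (P.root i) (P.root i) := by
  rw [← two_mul_rootForm, ← two_mul_rootForm, rootForm_symm]

theorem rootForm_ne_zero_iff (i j : ι) :
    P.RootForm (P.root i) (P.root j) ≠ 0 ↔ P.pairing i j ≠ 0 := by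
  have h := two_mul_rootForm P i j
  have h2 := rootForm_pos P j
  constructor
  · rintro h1 h3
    rw [h3, zero_mul] at h
    omega
  · rintro h1 h3
    rw [h3, mul_zero, eq_comm, mul_eq_zero] at h
    rcases h with h | h
    · exact h1 h
    · omega

/-- `4 (p^∨ p x, y)` is symmetric in `x`, `y`. -/
theorem rootForm_coPol (x y : M) :
    P.RootForm (P.CoPolarization (P.Polarization x)) y =
      P.CorootForm (P.Polarization x) (P.Polarization y) := by
  rw [rootForm_symm, ← toLinearMap_apply_apply_Polarization, toLinearMap_apply_CoPolarization]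

/-- `ℓ(α) ℓ(α^∨) (α, x) = 4 (p α, p x)`. -/
theorem lam_mul (i : ι) (y : M) :
    (P.RootForm (P.root i) (P.root i) * P.CorootForm (P.coroot i) (P.coroot i)) *
      P.RootForm (P.root i) y = 4 * P.CorootForm (P.Polarization (P.root i)) (P.Polarization y) := by
  have h : (4 : ℕ) • P.CoPolarization (P.Polarization (P.root i)) =
      (P.RootForm (P.root i) (P.root i) * P.CorootForm (P.coroot i) (P.coroot i)) • P.root i :=
    P.four_nsmul_coPolarization_compl_polarization_apply_root i
  have h1 : P.RootForm ((4 : ℕ) • P.CoPolarization (P.Polarization (P.root i))) y =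
    P.RootForm ((P.RootForm (P.root i) (P.root i) *
      P.CorootForm (P.coroot i) (P.coroot i)) • P.root i) y := by rw [h]
  rw [map_nsmul, map_smul, LinearMap.smul_apply, LinearMap.smul_apply, rootForm_coPol,
    nsmul_eq_mul, smul_eq_mul] at h1
  exact h1.symm

theorem lam_eq_of_pairing_ne_zero {i j : ι} (h : P.pairing i j ≠ 0) :
    P.RootForm (P.root i) (P.root i) * P.CorootForm (P.coroot i) (P.coroot i) =
      P.RootForm (P.root j) (P.root j) * P.CorootForm (P.coroot j) (P.coroot j) := by
  have h1 := lam_mul P i (P.root j)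
  have h2 := lam_mul P j (P.root i)
  rw [corootForm_symm P (P.Polarization (P.root j)), ← h1, rootForm_symm P (P.root j) (P.root i)] at h2
  exact (mul_right_cancel₀ ((rootForm_ne_zero_iff P i j).2 h) h2).symm

/-- The minimal length divides all the lengths of an irreducible datum. -/
theorem rootForm_dvd {P : RootPairing ι ℤ M N} (hirr : Irr P) (i₀ : ι)
    (hmin : ∀ i : ι, P.RootForm (P.root i₀) (P.root i₀) ≤ P.RootForm (P.root i) (P.root i)) (i : ι) :
    P.RootForm (P.root i₀) (P.root i₀) ∣ P.RootForm (P.root i) (P.root i) := by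
  obtain ⟨j, hj, hj0⟩ := hirr.exists_conj i i₀
  rw [← hj.rootForm_eq]
  have h1 := pairing_mul_swap P j i₀
  have h2 := hmin j
  have h3 := rootForm_pos P i₀
  have hm := pairing_mem P j i₀
  simp only [Set.mem_insert_iff, Set.mem_singleton_iff, Prod.mk.injEq] at hm
  rcases hm with h | h | h | h | h | h | h | h | h | h | h | h | h | h | h | h | h <;>
    rw [h.1, h.2] at h1
  · exact absurd h.1 hj0
  · exact ⟨1, by linarith⟩
  · exact ⟨1, by linarith⟩
  · exfalso; linarith
  · exact ⟨2, by linarith⟩
  · exfalso; linarith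
  · exact ⟨2, by linarith⟩
  · exfalso; linarith
  · exact ⟨3, by linarith⟩
  · exfalso; linarith
  · exact ⟨3, by linarith⟩
  · exact ⟨4, by linarith⟩
  · exfalso; linarith
  · exact ⟨4, by linarith⟩
  · exfalso; linarith
  · exact ⟨1, by linarith⟩
  · exact ⟨1, by linarith⟩

end K221.Form
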