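import Mathlib.LinearAlgebra.RootSystem.Base
import Mathlib.LinearAlgebra.RootSystem.Finite.Nondegenerate
import Groth.Prelude.Def_W4sga3xxiRoot

/-!
# Finite root pairings over `ℤ`: elementary facts, proportional roots, indivisible roots
-/

set_option autoImplicit false

open RootPairing

namespace K221.Prop

section Basic

variable {ι M N : Type*} [AddCommGroup M] [AddCommGroup N] (P : RootPairing ι ℤ M N)

include P in
theorem torsionFree_left : IsAddTorsionFree M :=
  have : Module.IsReflexive ℤ M := .of_isPerfPair P.toLinearMap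
  .of_isTorsionFree ℤ M

include P in
theorem torsionFree_right : IsAddTorsionFree N :=
  torsionFree_left P.flip

theorem pairingIn_eq (i j : ι) : P.pairingIn ℤ i j = P.pairing i j := by
  simpa using P.algebraMap_pairingIn ℤ i j

theorem root_ne_zero (i : ι) : P.root i ≠ 0 := P.ne_zero i

theorem coroot_ne_zero (i : ι) : P.coroot i ≠ 0 := P.ne_zero' i

theorem root_neg (i : ι) : P.root (P.reflectionPerm i i) = - P.root i := by
  rw [root_reflectionPerm, reflection_apply_self]

theorem coroot_neg (i : ι) : P.coroot (P.reflectionPerm i i) = - P.coroot i := by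
  rw [coroot_reflectionPerm, coreflection_apply_self]

theorem neg_neg_idx (i : ι) :
    P.reflectionPerm (P.reflectionPerm i i) (P.reflectionPerm i i) = i := by
  apply P.root.injective
  rw [root_neg, root_neg, neg_neg]

theorem ne_neg_idx (i : ι) : P.reflectionPerm i i ≠ i := by
  intro h
  have h1 := root_neg P i
  rw [h] at h1
  have := torsionFree_left P
  have h2 : (2 : ℕ) • P.root i = 0 := by rw [two_nsmul]; nth_rw 1 [h1]; simp
  exact P.ne_zero i (by simpa using h2)

variable [Finite ι]

theorem pairing_pos_comm {i j : ι} : 0 < P.pairing i j ↔ 0 < P.pairing j i := by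
  rw [← pairingIn_eq, ← pairingIn_eq]
  exact P.zero_lt_pairingIn_iff' ℤ

theorem pairing_neg_comm {i j : ι} : P.pairing i j < 0 ↔ P.pairing j i < 0 := by
  rw [← pairingIn_eq, ← pairingIn_eq]
  exact P.pairingIn_lt_zero_iff ℤ

omit [Finite ι] in
theorem pairing_zero_comm {i j : ι} : P.pairing i j = 0 ↔ P.pairing j i = 0 :=
  P.pairing_eq_zero_iff'

omit [Finite ι] in
theorem isOrthogonal_iff {i j : ι} : P.IsOrthogonal i j ↔ P.pairing i j = 0 :=
  ⟨fun h => h.1, fun h => ⟨h, (pairing_zero_comm P).1 h⟩⟩

theorem exists_sub {i j : ι} (h : 0 < P.pairing i j) (hne : i ≠ j) :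
    ∃ k, P.root k = P.root i - P.root j := by
  rw [← pairingIn_eq] at h
  exact P.root_sub_root_mem_of_pairingIn_pos h hne

theorem exists_add {i j : ι} (h : P.pairing i j < 0) (hne : P.root i ≠ - P.root j) :
    ∃ k, P.root k = P.root i + P.root j := by
  rw [← pairingIn_eq] at h
  exact P.root_add_root_mem_of_pairingIn_neg h hne

theorem pairing_mem (i j : ι) :
    (P.pairing i j, P.pairing j i) ∈
      ({(0, 0), (1, 1), (-1, -1), (1, 2), (2, 1), (-1, -2), (-2, -1), (1, 3), (3, 1), (-1, -3),
        (-3, -1), (4, 1), (1, 4), (-4, -1), (-1, -4), (2, 2), (-2, -2)} : Set (ℤ × ℤ)) := by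
  have := P.pairingIn_pairingIn_mem_set_of_isCrystallographic i j
  rwa [pairingIn_eq, pairingIn_eq] at this

/-- Two proportional roots are equal, opposite, or one is twice the other up to sign. -/
theorem prop_cases {i j : ι} (h : ¬ LinearIndependent ℤ ![P.root i, P.root j]) :
    P.root j = P.root i ∨ P.root j = -P.root i ∨ P.root j = (2 : ℤ) • P.root i ∨
      P.root j = -((2 : ℤ) • P.root i) ∨ P.root i = (2 : ℤ) • P.root j ∨
      P.root i = -((2 : ℤ) • P.root j) := by
  have : Module.IsReflexive ℤ M := .of_isPerfPair P.toLinearMap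
  have : Module.IsReflexive ℤ N := .of_isPerfPair P.flip.toLinearMap
  have h4 : P.coxeterWeight i j = 4 :=
    (P.coxeterWeight_eq_four_iff_not_linearIndependent).2 h
  have hm := pairing_mem P i j
  have h5 : P.pairing i j * P.pairing j i = 4 := h4
  have h6 : (P.pairing i j = 1 ∧ P.pairing j i = 4) ∨ (P.pairing i j = 4 ∧ P.pairing j i = 1) ∨
      (P.pairing i j = -1 ∧ P.pairing j i = -4) ∨ (P.pairing i j = -4 ∧ P.pairing j i = -1) ∨
      (P.pairing i j = 2 ∧ P.pairing j i = 2) ∨ (P.pairing i j = -2 ∧ P.pairing j i = -2) := by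
    simp only [Set.mem_insert_iff, Set.mem_singleton_iff, Prod.mk.injEq] at hm
    rcases hm with h | h | h | h | h | h | h | h | h | h | h | h | h | h | h | h | h <;>
      rw [h.1, h.2] at h5 <;> simp_all
  rcases h6 with h | h | h | h | h | h
  · rw [P.pairing_one_four_iff] at h
    exact Or.inr (Or.inr (Or.inl h))
  · rw [and_comm, P.pairing_one_four_iff] at h
    exact Or.inr (Or.inr (Or.inr (Or.inr (Or.inl h))))
  · rw [P.pairing_neg_one_neg_four_iff] at h
    exact Or.inr (Or.inr (Or.inr (Or.inl (by rw [h]; module))))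
  · rw [and_comm, P.pairing_neg_one_neg_four_iff] at h
    exact Or.inr (Or.inr (Or.inr (Or.inr (Or.inr (by rw [h]; module)))))
  · rw [P.pairing_two_two_iff] at h
    exact Or.inl (by rw [h])
  · rw [P.pairing_neg_two_neg_two_iff] at h
    exact Or.inr (Or.inl (by rw [h, neg_neg]))

omit [Finite ι] in
theorem not_linearIndependent_of_smul_eq {i j : ι} {a b : ℤ} (hb : b ≠ 0)
    (h : b • P.root j = a • P.root i) : ¬ LinearIndependent ℤ ![P.root i, P.root j] := by
  rw [LinearIndependent.pair_iff]
  push Not
  refine ⟨a, -b, ?_, ?_⟩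
  · rw [neg_smul, h, add_neg_cancel]
  · intro _ h2
    exact hb (by simpa using h2)

/-- If `b α_j = a α_i` with `b ≠ 0` then `a / b ∈ {±1, ±2, ±1/2}`. -/
theorem smul_cases {i j : ι} {a b : ℤ} (hb : b ≠ 0) (h : b • P.root j = a • P.root i) :
    (a = b ∧ P.root j = P.root i) ∨ (a = -b ∧ P.root j = -P.root i) ∨
      (a = 2 * b ∧ P.root j = (2 : ℤ) • P.root i) ∨
      (a = -2 * b ∧ P.root j = -((2 : ℤ) • P.root i)) ∨
      (b = 2 * a ∧ P.root i = (2 : ℤ) • P.root j) ∨
      (b = -2 * a ∧ P.root i = -((2 : ℤ) • P.root j)) := by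
  have := torsionFree_left P
  have key : ∀ {x : M} {c d : ℤ}, x ≠ 0 → c • x = d • x → c = d := by
    intro x c d hx h
    exact smul_left_injective ℤ hx h
  have hi := P.ne_zero i
  have hj := P.ne_zero j
  rcases prop_cases P (not_linearIndependent_of_smul_eq P hb h) with e | e | e | e | e | e
  · refine Or.inl ⟨?_, e⟩
    rw [e] at h
    exact (key hi h).symm
  · refine Or.inr (Or.inl ⟨?_, e⟩)
    rw [e, smul_neg, ← neg_smul] at h
    have := key hi h
    omega
  · refine Or.inr (Or.inr (Or.inl ⟨?_, e⟩))
    rw [e, smul_smul] at h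
    have := key hi h
    linarith
  · refine Or.inr (Or.inr (Or.inr (Or.inl ⟨?_, e⟩)))
    rw [e, smul_neg, ← neg_smul, smul_smul] at h
    have := key hi h
    linarith
  · refine Or.inr (Or.inr (Or.inr (Or.inr (Or.inl ⟨?_, e⟩))))
    rw [e, smul_smul] at h
    have := key hj h
    linarith
  · refine Or.inr (Or.inr (Or.inr (Or.inr (Or.inr ⟨?_, e⟩))))
    rw [e, smul_neg, ← neg_smul, smul_smul] at h
    have := key hj h
    linarith

/-- A positive proportionality factor between roots is `1`, `2` or `1/2`. -/
theorem smul_cases_pos {i j : ι} {a b : ℤ} (ha : 0 < a) (hb : 0 < b)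
    (h : b • P.root j = a • P.root i) :
    (a = b ∧ j = i) ∨ (a = 2 * b ∧ P.root j = (2 : ℤ) • P.root i) ∨
      (b = 2 * a ∧ P.root i = (2 : ℤ) • P.root j) := by
  rcases smul_cases P hb.ne' h with e | e | e | e | e | e
  · exact Or.inl ⟨e.1, P.root.injective e.2⟩
  · omega
  · exact Or.inr (Or.inl e)
  · omega
  · exact Or.inr (Or.inr e)
  · omega

/-- No root is four times a root. -/
theorem root_ne_four_smul (i j : ι) : P.root i ≠ (4 : ℤ) • P.root j := by
  intro h
  rcases smul_cases P (i := j) (j := i) (a := 4) (b := 1) one_ne_zero (by rw [one_smul, h]) with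
    e | e | e | e | e | e <;> omega

/-- Half of a divisible root is indivisible. -/
theorem isIndiv_half {i j : ι} (h : P.root i = (2 : ℤ) • P.root j) : RootD.IsIndiv P j := by
  intro k hk
  apply root_ne_four_smul P i k
  rw [h, ← hk, smul_smul]
  norm_num

/-- Every root is an indivisible root or twice an indivisible root. -/
theorem indiv_or_two_smul (i : ι) :
    RootD.IsIndiv P i ∨ ∃ j, RootD.IsIndiv P j ∧ P.root i = (2 : ℤ) • P.root j := by
  by_cases h : RootD.IsIndiv P i
  · exact Or.inl h
  · unfold RootD.IsIndiv at h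
    push Not at h
    obtain ⟨j, hj⟩ := h
    exact Or.inr ⟨j, isIndiv_half P hj.symm, hj.symm⟩

/-- An indivisible root proportional to a root divides it. -/
theorem dvd_of_indiv {i j : ι} (hind : RootD.IsIndiv P i) {a b : ℤ} (hb : b ≠ 0)
    (h : b • P.root j = a • P.root i) : b ∣ a := by
  rcases smul_cases P hb h with e | e | e | e | e | e
  · exact ⟨1, by omega⟩
  · exact ⟨-1, by omega⟩
  · exact ⟨2, by omega⟩
  · exact ⟨-2, by omega⟩
  · exact absurd e.2.symm (hind j)
  · refine absurd ?_ (hind (P.reflectionPerm j j))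
    rw [root_neg, e.2, smul_neg]

/-- For two roots in proportion `t` the coroots are in proportion `t⁻¹`. -/
theorem coroot_two_smul {i j : ι} (h : P.root j = (2 : ℤ) • P.root i) :
    (2 : ℤ) • P.coroot j = P.coroot i :=
  have := torsionFree_right P
  P.smul_coroot_eq_of_root_eq_smul i j 2 h

theorem coroot_two_smul_iff {i j : ι} :
    (2 : ℤ) • P.coroot j = P.coroot i ↔ P.root j = (2 : ℤ) • P.root i := by
  constructor
  · intro h
    exact (coroot_two_smul P.flip h.symm).symm
  · exact coroot_two_smul P

/-- The coroot of `i` is indivisible iff `2 α_i` is not a root. -/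
theorem isIndiv_flip_iff {i : ι} :
    RootD.IsIndiv P.flip i ↔ ∀ j, P.root j ≠ (2 : ℤ) • P.root i := by
  constructor
  · intro h j hj
    exact h j ((coroot_two_smul_iff P).2 hj)
  · intro h j hj
    exact h j ((coroot_two_smul_iff P).1 hj)

/-- Proportional roots define the same reflection. -/
theorem reflection_eq_of_two_smul {i j : ι} (h : P.root j = (2 : ℤ) • P.root i) :
    P.reflection j = P.reflection i := by
  ext x
  have h1 : P.coroot' i x = 2 * P.coroot' j x := by
    rw [coroot', ← coroot_two_smul P h, map_smul, LinearMap.smul_apply, smul_eq_mul]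
  rw [reflection_apply, reflection_apply, h, h1, smul_smul, mul_comm]

theorem reflectionPerm_eq_of_two_smul {i j : ι} (h : P.root j = (2 : ℤ) • P.root i) :
    P.reflectionPerm j = P.reflectionPerm i := by
  ext k
  apply P.root.injective
  rw [root_reflectionPerm, root_reflectionPerm, reflection_eq_of_two_smul P h]

end Basic

end K221.Prop
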