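import Mathlib.LinearAlgebra.RootSystem.CartanMatrix
import Groth.Agent.RootD.K221.Prop

/-!
# Adjoint root data are determined by their Cartan matrix
-/

set_option autoImplicit false

open RootPairing

namespace K221.Adj

open K221.Prop

variable {ι M N ι' M' N' : Type*} [AddCommGroup M] [AddCommGroup N] [AddCommGroup M'] [AddCommGroup N']

section Equiv

variable (P : RootPairing ι ℤ M N) (P' : RootPairing ι' ℤ M' N')

/-- The transpose of a linear map of weight lattices. -/
noncomputable def transp (f : M →ₗ[ℤ] M') : N' →ₗ[ℤ] N :=
  P.flip.toPerfPair.symm.toLinearMap ∘ₗ f.dualMap ∘ₗ P'.flip.toPerfPair.toLinearMap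

theorem toPerfPair_transp (f : M →ₗ[ℤ] M') (n : N') :
    P.flip.toPerfPair (transp P P' f n) = f.dualMap (P'.flip.toPerfPair n) := by
  simp [transp]

theorem transp_apply (f : M →ₗ[ℤ] M') (m : M) (n : N') :
    P.toLinearMap m (transp P P' f n) = P'.toLinearMap (f m) n :=
  LinearMap.congr_fun (toPerfPair_transp P P' f n) m

theorem eq_of_toLinearMap {n n' : N} (h : ∀ m, P.toLinearMap m n = P.toLinearMap m n') : n = n' := by
  apply P.flip.toPerfPair.injective
  ext m
  exact h m

variable {P P'}

/-- For an adjoint root datum, an isomorphism of weight lattices inducing a bijection of the roots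
respects the coroots. -/
theorem coroot_eq [Finite ι] (had : Submodule.span ℤ (Set.range P.root) = ⊤) (f : M ≃ₗ[ℤ] M')
    (e : ι ≃ ι') (hf : ∀ i, f (P.root i) = P'.root (e i)) (i : ι) (m : M) :
    P'.toLinearMap (f m) (P'.coroot (e i)) = P.toLinearMap m (P.coroot i) := by
  have : Module.IsReflexive ℤ M := .of_isPerfPair P.toLinearMap
  have key : (P'.coroot' (e i)) ∘ₗ f.toLinearMap = P.coroot' i := by
    refine Module.Dual.eq_of_preReflection_mapsTo (x := P.root i) (Set.finite_range P.root) had ?_ ?_ ?_ ?_
    · rw [LinearMap.comp_apply, LinearEquiv.coe_coe, hf, root_coroot'_eq_pairing, pairing_same]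
    · rintro _ ⟨j, rfl⟩
      refine ⟨e.symm (P'.reflectionPerm (e i) (e j)), ?_⟩
      apply f.injective
      rw [hf, Equiv.apply_symm_apply, root_reflectionPerm, reflection_apply_root,
        Module.preReflection_apply, map_sub, map_smul, hf, hf, LinearMap.comp_apply,
        LinearEquiv.coe_coe, hf, root_coroot'_eq_pairing]
    · rw [root_coroot'_eq_pairing, pairing_same]
    · rintro _ ⟨j, rfl⟩
      exact ⟨P.reflectionPerm i j, by rw [root_reflectionPerm]; rfl⟩
  exact LinearMap.congr_fun key m

/-- For an adjoint root datum, an isomorphism of weight lattices inducing a bijection of the roots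
is an isomorphism of root data. -/
noncomputable def mkEquiv [Finite ι] (had : Submodule.span ℤ (Set.range P.root) = ⊤) (f : M ≃ₗ[ℤ] M')
    (e : ι ≃ ι') (hf : ∀ i, f (P.root i) = P'.root (e i)) : RootPairing.Equiv P P' where
  weightMap := f.toLinearMap
  coweightMap := transp P P' f.toLinearMap
  indexEquiv := e
  weight_coweight_transpose := by
    ext n m
    exact (LinearMap.congr_fun (toPerfPair_transp P P' f.toLinearMap n) m).symm
  root_weightMap := by
    ext i
    exact hf i
  coroot_coweightMap := by
    ext i
    apply eq_of_toLinearMap P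
    intro m
    change P.toLinearMap m (transp P P' f.toLinearMap (P'.coroot i)) = P.toLinearMap m (P.coroot (e.symm i))
    rw [transp_apply]
    have := coroot_eq had f e hf (e.symm i) m
    rw [Equiv.apply_symm_apply] at this
    exact this
  bijective_weightMap := f.bijective
  bijective_coweightMap := by
    constructor
    · intro n n' h
      apply P'.flip.toPerfPair.injective
      ext m
      have h1 := congrArg (P.toLinearMap (f.symm m)) h
      rw [transp_apply, transp_apply, LinearEquiv.coe_coe, LinearEquiv.apply_symm_apply] at h1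
      exact h1
    · intro n
      refine ⟨P'.flip.toPerfPair.symm (f.symm.toLinearMap.dualMap (P.flip.toPerfPair n)), ?_⟩
      apply P.flip.toPerfPair.injective
      rw [toPerfPair_transp, LinearEquiv.apply_symm_apply]
      ext m
      change P.flip.toPerfPair n (f.symm (f m)) = _
      rw [LinearEquiv.symm_apply_apply]

/-- An isomorphism of root data is determined by its map of weight lattices. -/
theorem equiv_ext {e₁ e₂ : RootPairing.Equiv P P'}
    (h : ∀ m, e₁.toHom.weightMap m = e₂.toHom.weightMap m) : e₁ = e₂ := by
  have hw : e₁.toHom.weightMap = e₂.toHom.weightMap := LinearMap.ext h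
  apply RootPairing.Equiv.ext
  · exact hw
  · ext n
    apply P.flip.toPerfPair.injective
    rw [← Hom.weight_coweight_transpose_apply, ← Hom.weight_coweight_transpose_apply, hw]
  · ext i
    apply P'.root.injective
    rw [← Hom.root_weightMap_apply, ← Hom.root_weightMap_apply, hw]

end Equiv

section Cartan

variable {P : RootPairing ι ℤ M N} {P' : RootPairing ι' ℤ M' N'}

/-- The basis of the weight lattice of an adjoint root datum given by a system of simple roots. -/
noncomputable def wBasis (had : Submodule.span ℤ (Set.range P.root) = ⊤) (b : P.Base) :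
    Module.Basis b.support ℤ M :=
  Module.Basis.mk (v := fun i : b.support => P.root i) b.linearIndepOn_root (by
    have h1 : Set.range (fun i : b.support => P.root i) = P.root '' (b.support : Set ι) := by
      ext x
      simp
    rw [h1, b.span_root_support]
    exact had.ge)

theorem wBasis_apply (had : Submodule.span ℤ (Set.range P.root) = ⊤) (b : P.Base) (i : b.support) :
    wBasis had b i = P.root i := by
  simp [wBasis]

theorem map_root_mem [Finite ι] [P.IsReduced] (had : Submodule.span ℤ (Set.range P.root) = ⊤)
    (b : P.Base) (b' : P'.Base) (u : b.support ≃ b'.support)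
    (hu : ∀ i j : ↥b.support, P.pairing (i : ι) (j : ι) = P'.pairing (u i : ι') (u j : ι'))
    (f : M →ₗ[ℤ] M') (hf : ∀ i : b.support, f (P.root i) = P'.root (u i)) (i : ι) :
    f (P.root i) ∈ Set.range P'.root := by
  have hcomm : ∀ (k : b.support) (m : M), f (P.reflection k m) = P'.reflection (u k) (f m) := by
    intro k m
    have : f ∘ₗ (P.reflection k).toLinearMap = (P'.reflection (u k)).toLinearMap ∘ₗ f := by
      apply (wBasis had b).ext
      intro j
      rw [LinearMap.comp_apply, LinearMap.comp_apply, wBasis_apply, LinearEquiv.coe_coe,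
        LinearEquiv.coe_coe, reflection_apply_root, map_sub, map_smul, hf, hf,
        reflection_apply_root, hu]
    exact LinearMap.congr_fun this m
  refine b.induction_reflect i (p := fun i => f (P.root i) ∈ Set.range P'.root) ?_ ?_ ?_
  · rintro i ⟨j, hj⟩
    refine ⟨P'.reflectionPerm j j, ?_⟩
    rw [root_neg, root_neg, map_neg, hj]
  · intro i hi
    exact ⟨u ⟨i, hi⟩, (hf ⟨i, hi⟩).symm⟩
  · rintro i j ⟨k, hk⟩ hj
    refine ⟨P'.reflectionPerm (u ⟨j, hj⟩) k, ?_⟩
    rw [root_reflectionPerm, root_reflectionPerm, hk]
    exact (hcomm ⟨j, hj⟩ _).symm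

theorem existsUnique [Finite ι] [Finite ι'] [P.IsReduced] [P'.IsReduced]
    (had : Submodule.span ℤ (Set.range P.root) = ⊤) (had' : Submodule.span ℤ (Set.range P'.root) = ⊤)
    (b : P.Base) (b' : P'.Base) (u : ↥b.support ≃ ↥b'.support)
    (hu : ∀ i j : ↥b.support, P.pairing (i : ι) (j : ι) = P'.pairing (u i : ι') (u j : ι')) :
    ∃! e : RootPairing.Equiv P P', ∀ i : ↥b.support, e.indexEquiv (i : ι) = (u i : ι') := by
  let f : M ≃ₗ[ℤ] M' := (wBasis had b).equiv (wBasis had' b') u
  have hf : ∀ i : b.support, f (P.root i) = P'.root (u i) := by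
    intro i
    rw [← wBasis_apply had b i, Module.Basis.equiv_apply, wBasis_apply]
  have hf' : ∀ i : b'.support, f.symm (P'.root i) = P.root (u.symm i) := by
    intro i
    rw [LinearEquiv.symm_apply_eq, hf, Equiv.apply_symm_apply]
  have h1 := map_root_mem had b b' u hu f.toLinearMap hf
  have h2 := map_root_mem had' b' b u.symm (fun i j => by rw [hu, Equiv.apply_symm_apply,
    Equiv.apply_symm_apply]) f.symm.toLinearMap hf'
  choose e he using h1
  choose e' he' using h2
  have hee' : ∀ i, e' (e i) = i := by
    intro i
    apply P.root.injective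
    rw [he', he]
    exact f.symm_apply_apply _
  have he'e : ∀ i, e (e' i) = i := by
    intro i
    apply P'.root.injective
    rw [he, he']
    exact f.apply_symm_apply _
  let E : ι ≃ ι' := ⟨e, e', hee', he'e⟩
  refine ⟨mkEquiv had f E (fun i => (he i).symm), ?_, ?_⟩
  · intro i
    apply P'.root.injective
    change P'.root (e i) = _
    rw [he]
    exact hf i
  · intro e₂ h₂
    apply equiv_ext
    intro m
    have : e₂.toHom.weightMap = f.toLinearMap := by
      apply (wBasis had b).ext
      intro i
      rw [wBasis_apply, Hom.root_weightMap_apply, h₂ i]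
      exact (hf i).symm
    rw [this]
    rfl

end Cartan

end K221.Adj
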