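import Groth.Agent.RootD.K221.Prop

/-!
# Roots which are non-negative combinations of roots
-/

set_option autoImplicit false

open RootPairing

namespace K221.Sum

open K221.Prop

variable {ι M N : Type*} [AddCommGroup M] [AddCommGroup N] {P : RootPairing ι ℤ M N} [Finite ι]

/-- If `c α_k = ∑ m_l α_{a l}` with `c > 0`, `m_l ≥ 0` and `a l ≠ k`, then some `α_k - α_{a l}` is a root. -/
theorem exists_sub_mem {n : ℕ} (a : Fin n → ι) (m : Fin n → ℕ)
    (k : ι) (hne : ∀ l, a l ≠ k) (c : ℕ) (hc : 0 < c)
    (hk : c • P.root k = ∑ l, m l • P.root (a l)) :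
    ∃ l : Fin n, m l ≠ 0 ∧ 0 < P.pairing (a l) k ∧ P.root k - P.root (a l) ∈ Set.range P.root := by
  have h1 : (c : ℤ) * 2 = ∑ l, (m l : ℤ) * P.pairing (a l) k := by
    have := congrArg (P.coroot' k) hk
    simpa using this
  have h2 : ∃ l ∈ Finset.univ, 0 < (m l : ℤ) * P.pairing (a l) k := by
    by_contra! hn
    have := Finset.sum_nonpos hn
    omega
  obtain ⟨l, -, hl⟩ := h2
  have hm0 : m l ≠ 0 := by
    rintro h0
    rw [h0] at hl
    simp at hl
  have hm : (0 : ℤ) < m l := by positivity
  have hp : 0 < P.pairing (a l) k := by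
    by_contra! hn
    nlinarith
  exact ⟨l, hm0, hp, exists_sub P ((pairing_pos_comm P).1 hp) (hne l).symm⟩

/-- In a multiset of roots with sum a root `α_k` there is one with positive pairing with `α_k^∨`. -/
theorem exists_pos_of_multiset {k : ι} {l : Multiset M} (hl : l.sum = P.root k) :
    ∃ y ∈ l, 0 < P.toLinearMap y (P.coroot k) := by
  by_contra! hn
  have h1 : P.coroot' k l.sum = 2 := by
    rw [hl, root_coroot'_eq_pairing, pairing_same]
  have h3 : P.coroot' k l.sum ≤ 0 := by
    clear hl h1
    induction l using Multiset.induction_on with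
    | empty => simp
    | cons a l ih =>
      rw [Multiset.sum_cons, map_add]
      have h4 : P.coroot' k a ≤ 0 := hn a (Multiset.mem_cons_self a l)
      have h5 := ih (fun y hy => hn y (Multiset.mem_cons_of_mem hy))
      omega
  omega

/-- A closed set of roots contains every root which is a sum of elements of the set. -/
theorem mem_of_multiset_sum {S : Set ι} (hS : RootD.IsClosedSub P S) :
    ∀ (n : ℕ) (l : Multiset M), l.card = n → (∀ y ∈ l, y ∈ P.root '' S) →
      ∀ k : ι, l.sum = P.root k → k ∈ S := by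
  classical
  intro n
  induction n with
  | zero =>
    intro l hl _ k hk
    rw [Multiset.card_eq_zero] at hl
    rw [hl, Multiset.sum_zero] at hk
    exact absurd hk.symm (P.ne_zero k)
  | succ n ih =>
    intro l hl hmem k hk
    obtain ⟨y, hy, hpos⟩ := exists_pos_of_multiset hk
    obtain ⟨s, hs, rfl⟩ := hmem y hy
    have hpos' : 0 < P.pairing s k := hpos
    by_cases hsk : s = k
    · exact hsk ▸ hs
    obtain ⟨k', hk'⟩ := exists_sub P ((pairing_pos_comm P).1 hpos') (Ne.symm hsk)
    have h1 : (l.erase (P.root s)).card = n := by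
      rw [Multiset.card_erase_of_mem hy, hl]; rfl
    have h2 : (l.erase (P.root s)).sum = P.root k' := by
      have := Multiset.sum_erase hy
      rw [hk', ← hk, ← this]; abel
    have h3 := ih _ h1 (fun y hy' => hmem y (Multiset.mem_of_mem_erase hy')) k' h2
    refine hS h3 hs ?_
    rw [hk']; abel

theorem isClosedSub_iff (S : Set ι) :
    RootD.IsClosedSub P S ↔ ∀ k : ι, P.root k ∈ RootD.natSpan P S → k ∈ S := by
  constructor
  · intro hS k hk
    obtain ⟨l, hl, hlk⟩ := AddSubmonoid.exists_multiset_of_mem_closure hk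
    exact mem_of_multiset_sum hS _ l rfl hl k hlk
  · intro h i j k hi hj hk
    apply h k
    rw [hk]
    exact AddSubmonoid.add_mem _ (AddSubmonoid.subset_closure ⟨i, hi, rfl⟩)
      (AddSubmonoid.subset_closure ⟨j, hj, rfl⟩)

end K221.Sum
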