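import Groth.Agent.RootD.K221.Form
import Groth.Agent.RootD.K221.Sum

/-!
# Systems of simple roots (root-only sense): coordinates, partitions, orthogonality
-/

set_option autoImplicit false

open RootPairing

namespace K221.Simple

open K221.Prop K221.Conn K221.Form K221.Sum

section Span

variable {ι M N : Type*} [AddCommGroup M] [AddCommGroup N] (P : RootPairing ι ℤ M N) [Fintype ι]

/-- Elements of `ℕ S` are the non-negative integer combinations supported on `S`. -/
theorem mem_natSpan_iff (S : Set ι) (x : M) : x ∈ RootD.natSpan P S ↔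
    ∃ c : ι → ℕ, (∀ i ∉ S, c i = 0) ∧ x = ∑ i, (c i : ℤ) • P.root i := by
  classical
  constructor
  · intro hx
    induction hx using AddSubmonoid.closure_induction with
    | mem x hx =>
      obtain ⟨i, hi, rfl⟩ := hx
      refine ⟨Pi.single i 1, fun j hj => ?_, ?_⟩
      · rw [Pi.single_eq_of_ne]
        rintro rfl
        exact hj hi
      · rw [Finset.sum_eq_single i]
        · simp
        · intro j _ hj
          simp [Pi.single_eq_of_ne hj]
        · simp
    | zero => exact ⟨0, fun _ _ => rfl, by simp⟩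
    | add x y _ _ hx hy =>
      obtain ⟨c, hc, rfl⟩ := hx
      obtain ⟨d, hd, rfl⟩ := hy
      refine ⟨c + d, fun i hi => by simp [hc i hi, hd i hi], ?_⟩
      rw [← Finset.sum_add_distrib]
      refine Finset.sum_congr rfl fun i _ => ?_
      rw [Pi.add_apply, Nat.cast_add, add_smul]
  · rintro ⟨c, hc, rfl⟩
    apply AddSubmonoid.sum_mem
    intro i _
    by_cases hi : i ∈ S
    · have h1 : P.root i ∈ RootD.natSpan P S := AddSubmonoid.subset_closure ⟨i, hi, rfl⟩
      rw [natCast_zsmul]
      exact AddSubmonoid.nsmul_mem _ h1 _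
    · rw [hc i hi]; simp

/-- Elements of the span of `S` are the integer combinations supported on `S`. -/
theorem mem_span_iff (S : Set ι) (x : M) : x ∈ Submodule.span ℤ (P.root '' S) ↔
    ∃ c : ι → ℤ, (∀ i ∉ S, c i = 0) ∧ x = ∑ i, c i • P.root i := by
  classical
  constructor
  · intro hx
    induction hx using Submodule.span_induction with
    | mem x hx =>
      obtain ⟨i, hi, rfl⟩ := hx
      refine ⟨Pi.single i 1, fun j hj => ?_, ?_⟩
      · rw [Pi.single_eq_of_ne]
        rintro rfl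
        exact hj hi
      · rw [Finset.sum_eq_single i]
        · simp
        · intro j _ hj
          simp [Pi.single_eq_of_ne hj]
        · simp
    | zero => exact ⟨0, fun _ _ => rfl, by simp⟩
    | add x y _ _ hx hy =>
      obtain ⟨c, hc, rfl⟩ := hx
      obtain ⟨d, hd, rfl⟩ := hy
      refine ⟨c + d, fun i hi => by simp [hc i hi, hd i hi], ?_⟩
      rw [← Finset.sum_add_distrib]
      refine Finset.sum_congr rfl fun i _ => ?_
      rw [Pi.add_apply, add_smul]
    | smul a x _ hx =>
      obtain ⟨c, hc, rfl⟩ := hx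
      refine ⟨a • c, fun i hi => by simp [hc i hi], ?_⟩
      rw [Finset.smul_sum]
      refine Finset.sum_congr rfl fun i _ => ?_
      rw [Pi.smul_apply, smul_assoc]
  · rintro ⟨c, hc, rfl⟩
    apply Submodule.sum_mem
    intro i _
    by_cases hi : i ∈ S
    · exact Submodule.smul_mem _ _ (Submodule.subset_span ⟨i, hi, rfl⟩)
    · rw [hc i hi]; simp

variable {P}

/-- Coordinates on a linearly independent set of roots vanish for a zero combination. -/
theorem coord_eq_zero {Δ : Set ι} (hΔ : LinearIndepOn ℤ P.root Δ) {c : ι → ℤ}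
    (hc : ∀ i ∉ Δ, c i = 0) (h : ∑ i, c i • P.root i = 0) : c = 0 := by
  classical
  rw [linearIndepOn_iff'] at hΔ
  have h1 := hΔ (Finset.univ.filter (· ∈ Δ)) c (by intro i hi; simpa using hi) (by
    rw [← h, Finset.sum_filter]
    refine Finset.sum_congr rfl fun i _ => ?_
    split_ifs with hi
    · rfl
    · rw [hc i hi, zero_smul])
  ext i
  by_cases hi : i ∈ Δ
  · exact h1 i (by simpa using hi)
  · exact hc i hi

theorem coord_unique {Δ : Set ι} (hΔ : LinearIndepOn ℤ P.root Δ) {c d : ι → ℤ}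
    (hc : ∀ i ∉ Δ, c i = 0) (hd : ∀ i ∉ Δ, d i = 0)
    (h : ∑ i, c i • P.root i = ∑ i, d i • P.root i) : c = d := by
  have h1 := coord_eq_zero hΔ (c := c - d) (fun i hi => by simp [hc i hi, hd i hi]) (by
    rw [← sub_eq_zero, ← Finset.sum_sub_distrib] at h
    rw [← h]
    refine Finset.sum_congr rfl fun i _ => ?_
    rw [Pi.sub_apply, sub_smul])
  exact sub_eq_zero.1 h1

end Span

section Simple

variable {ι M N : Type*} [AddCommGroup M] [AddCommGroup N] {P : RootPairing ι ℤ M N} [Fintype ι]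
  {Δ : Set ι}

/-- Every root has coordinates along a simple system, all of the same sign. -/
theorem exists_coord (hΔ : RootD.IsSimpleSys P Δ) (k : ι) :
    ∃ c : ι → ℤ, (∀ i ∉ Δ, c i = 0) ∧ P.root k = ∑ i, c i • P.root i ∧
      ((P.root k ∈ RootD.natSpan P Δ ∧ ∀ i, 0 ≤ c i) ∨
        (-P.root k ∈ RootD.natSpan P Δ ∧ ∀ i, c i ≤ 0)) := by
  rcases hΔ.mem_or_neg_mem k with h | h
  · obtain ⟨c, hc, e⟩ := (mem_natSpan_iff P Δ _).1 h
    exact ⟨fun i => c i, fun i hi => by simp [hc i hi], e, Or.inl ⟨h, fun i => by simp⟩⟩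
  · obtain ⟨c, hc, e⟩ := (mem_natSpan_iff P Δ _).1 h
    refine ⟨fun i => -(c i : ℤ), fun i hi => by simp [hc i hi], ?_, Or.inr ⟨h, fun i => by simp⟩⟩
    rw [← neg_neg (P.root k), e, ← Finset.sum_neg_distrib]
    refine Finset.sum_congr rfl fun i _ => ?_
    rw [neg_smul]

/-- A combination of simple roots which is a root has coefficients of the same sign. -/
theorem nonneg_or_nonpos (hΔ : RootD.IsSimpleSys P Δ) {k : ι} {c : ι → ℤ} (hc : ∀ i ∉ Δ, c i = 0)
    (h : P.root k = ∑ i, c i • P.root i) : (∀ i, 0 ≤ c i) ∨ (∀ i, c i ≤ 0) := by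
  obtain ⟨d, hd, e, h1⟩ := exists_coord hΔ k
  have : c = d := coord_unique hΔ.linInd hc hd (h.symm.trans e)
  subst this
  rcases h1 with h1 | h1
  · exact Or.inl h1.2
  · exact Or.inr h1.2

theorem rootspan_le (hΔ : RootD.IsSimpleSys P Δ) (k : ι) :
    P.root k ∈ Submodule.span ℤ (P.root '' Δ) := by
  obtain ⟨c, hc, e, -⟩ := exists_coord hΔ k
  exact (mem_span_iff P Δ _).2 ⟨c, hc, e⟩

/-- The difference of two simple roots is not a root. -/
theorem sub_ne (hΔ : RootD.IsSimpleSys P Δ) {i j : ι} (hi : i ∈ Δ) (hj : j ∈ Δ) (hij : i ≠ j) (k : ι) :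
    P.root k ≠ P.root i - P.root j := by
  classical
  intro h
  have h1 : P.root k = ∑ l, (Pi.single i 1 - Pi.single j 1 : ι → ℤ) l • P.root l := by
    simp_rw [Pi.sub_apply, sub_smul, Finset.sum_sub_distrib]
    rw [Finset.sum_eq_single i, Finset.sum_eq_single j, h]
    · simp
    · intro l _ hl; simp [Pi.single_eq_of_ne hl]
    · simp
    · intro l _ hl; simp [Pi.single_eq_of_ne hl]
    · simp
  have h2 := nonneg_or_nonpos hΔ (c := Pi.single i 1 - Pi.single j 1) (by
    intro l hl
    have hli : l ≠ i := by rintro rfl; exact hl hi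
    have hlj : l ≠ j := by rintro rfl; exact hl hj
    simp [Pi.single_eq_of_ne hli, Pi.single_eq_of_ne hlj]) h1
  rcases h2 with h2 | h2
  · have := h2 j
    simp [Pi.single_eq_of_ne hij.symm] at this
  · have := h2 i
    simp [Pi.single_eq_of_ne hij] at this

/-- Off-diagonal Cartan integers of a simple system are non-positive. -/
theorem pairing_nonpos (hΔ : RootD.IsSimpleSys P Δ) {i j : ι} (hi : i ∈ Δ) (hj : j ∈ Δ)
    (hij : i ≠ j) : P.pairing i j ≤ 0 := by
  by_contra! hn
  obtain ⟨k, hk⟩ := exists_sub P hn hij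
  exact sub_ne hΔ hi hj hij k hk

/-- An element of the root lattice orthogonal to all coroots vanishes. -/
theorem eq_zero_of_pairing {v : M} (hv : v ∈ Submodule.span ℤ (Set.range P.root))
    (h : ∀ j, P.coroot' j v = 0) : v = 0 := by
  apply P.eq_zero_of_mem_rootSpan_of_rootForm_self_eq_zero hv
  rw [rootForm_apply_apply]
  exact Finset.sum_eq_zero fun j _ => by rw [h j, zero_mul]

theorem inSpan_inter_of_mem (hΔ : RootD.IsSimpleSys P Δ) {R' : Set ι} (hR' : ∀ i ∈ R', ∀ j ∉ R', P.pairing i j = 0)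
    {k : ι} (hk : k ∈ R') : k ∈ RootD.inSpan P (Δ ∩ R') := by
  classical
  obtain ⟨c, hc, e, -⟩ := exists_coord hΔ k
  set v : M := ∑ i, (if i ∈ R' then 0 else c i) • P.root i with hv
  have h1 : P.root k = ∑ i, (if i ∈ R' then c i else 0) • P.root i + v := by
    rw [hv, ← Finset.sum_add_distrib, e]
    refine Finset.sum_congr rfl fun i _ => ?_
    split_ifs <;> simp
  have h2 : v = 0 := by
    refine eq_zero_of_pairing (P := P) (Submodule.sum_mem _ fun i _ =>
      Submodule.smul_mem _ _ (Submodule.subset_span ⟨i, rfl⟩)) ?_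
    intro j
    by_cases hj : j ∈ R'
    · rw [hv, map_sum]
      refine Finset.sum_eq_zero fun i _ => ?_
      split_ifs with hi
      · simp
      · rw [map_smul, root_coroot'_eq_pairing, (pairing_zero_comm P).1 (hR' j hj i hi), smul_zero]
    · have h3 : P.coroot' j (P.root k) = 0 := by
        rw [root_coroot'_eq_pairing]; exact hR' k hk j hj
      rw [h1, map_add, map_sum] at h3
      rw [← h3, right_eq_add]
      refine Finset.sum_eq_zero fun i _ => ?_
      split_ifs with hi
      · rw [map_smul, root_coroot'_eq_pairing, hR' i hi j hj, smul_zero]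
      · simp
  rw [h2, add_zero] at h1
  refine (mem_span_iff P _ _).2 ⟨_, ?_, h1⟩
  intro i hi
  by_cases hiR : i ∈ R'
  · have : i ∉ Δ := fun h => hi ⟨h, hiR⟩
    rw [hc i this]; simp
  · simp [hiR]

/-- Spans of disjoint subsets of a simple system contain no common root. -/
theorem not_mem_both (hΔ : RootD.IsSimpleSys P Δ) {S T : Set ι} (hS : S ⊆ Δ) (hT : T ⊆ Δ)
    (hST : Disjoint S T) {k : ι} (h1 : k ∈ RootD.inSpan P S) (h2 : k ∈ RootD.inSpan P T) : False := by
  obtain ⟨c, hc, e⟩ := (mem_span_iff P S _).1 h1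
  obtain ⟨d, hd, e'⟩ := (mem_span_iff P T _).1 h2
  have h3 := coord_unique hΔ.linInd (fun i hi => hc i (fun h => hi (hS h)))
    (fun i hi => hd i (fun h => hi (hT h))) (e.symm.trans e')
  apply P.ne_zero k
  rw [e]
  refine Finset.sum_eq_zero fun i _ => ?_
  by_cases hi : i ∈ S
  · have : i ∉ T := fun h => Set.disjoint_left.1 hST hi h
    rw [h3, hd i this, zero_smul]
  · rw [hc i hi, zero_smul]

theorem partition_eq_inSpan (hΔ : RootD.IsSimpleSys P Δ) {R' : Set ι}
    (hR' : ∀ i ∈ R', ∀ j ∉ R', P.pairing i j = 0) :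
    R' = RootD.inSpan P (Δ ∩ R') ∧ R'ᶜ = RootD.inSpan P (Δ \ R') := by
  have hR'' : ∀ i ∈ R'ᶜ, ∀ j ∉ R'ᶜ, P.pairing i j = 0 := by
    intro i hi j hj
    rw [Set.mem_compl_iff, not_not] at hj
    exact (pairing_zero_comm P).1 (hR' j hj i hi)
  have h1 : ∀ k, k ∈ R' → k ∈ RootD.inSpan P (Δ ∩ R') := fun k hk => inSpan_inter_of_mem hΔ hR' hk
  have h2 : ∀ k, k ∉ R' → k ∈ RootD.inSpan P (Δ \ R') := fun k hk => by
    have := inSpan_inter_of_mem hΔ hR'' hk
    rwa [← Set.sdiff_eq] at this
  have hdisj : Disjoint (Δ ∩ R') (Δ \ R') := by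
    rw [Set.disjoint_left]
    rintro i ⟨-, h⟩ ⟨-, h'⟩
    exact h' h
  constructor
  · ext k
    refine ⟨h1 k, fun hk => ?_⟩
    by_contra hn
    exact not_mem_both hΔ Set.inter_subset_left Set.sdiff_subset hdisj hk (h2 k hn)
  · ext k
    refine ⟨h2 k, fun hk hn => ?_⟩
    exact not_mem_both hΔ Set.inter_subset_left Set.sdiff_subset hdisj (h1 k hn) hk

end Simple

end K221.Simple
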