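import Mathlib.Analysis.Matrix.PosDef
import Mathlib.Algebra.Order.Star.Real
import Mathlib.LinearAlgebra.Matrix.ToLinearEquiv
import Groth.Agent.RootD.K221.Simple

/-!
# Principal minors of the Cartan matrix
-/

set_option autoImplicit false

open RootPairing

namespace K221.Det

open K221.Prop K221.Form

variable {ι M N : Type*} [AddCommGroup M] [AddCommGroup N] {P : RootPairing ι ℤ M N} [Fintype ι]
  {Δ : Set ι}

/-- The Gram matrix of a finite set of roots. -/
def gram (P : RootPairing ι ℤ M N) (S : Finset ι) : Matrix S S ℤ :=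
  Matrix.of fun (a b : S) => P.RootForm (P.root b) (P.root a)

open Classical in
theorem gram_det_nonneg (P : RootPairing ι ℤ M N) (S : Finset ι) : 0 ≤ (gram P S).det := by
  let A : Matrix ι S ℝ := Matrix.of fun j b => (P.pairing b j : ℝ)
  have h1 : (gram P S).map (Int.castRingHom ℝ) = A.conjTranspose * A := by
    ext a b
    simp only [gram, Matrix.map_apply, Matrix.of_apply, Matrix.mul_apply, Matrix.conjTranspose_apply,
      rootForm_apply_apply, A, root_coroot'_eq_pairing, star_trivial]
    simp only [eq_intCast, Int.cast_sum, Int.cast_mul]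
    exact Finset.sum_congr rfl fun j _ => mul_comm _ _
  have h2 : (0 : ℝ) ≤ ((gram P S).map (Int.castRingHom ℝ)).det := by
    rw [h1]
    exact (Matrix.posSemidef_conjTranspose_mul_self A).det_nonneg
  have h3 : ((gram P S).map (Int.castRingHom ℝ)).det = ((gram P S).det : ℝ) := by
    have := (Int.castRingHom ℝ).map_det (gram P S)
    rw [eq_intCast] at this
    exact this.symm
  rw [h3] at h2
  exact_mod_cast h2

open Classical in
theorem gram_det_ne_zero (hΔ : LinearIndepOn ℤ P.root Δ) (S : Finset ι) (hS : (S : Set ι) ⊆ Δ) :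
    (gram P S).det ≠ 0 := by
  intro h0
  obtain ⟨v, hv, hv0⟩ := Matrix.exists_mulVec_eq_zero_iff.2 h0
  apply hv
  set x : M := ∑ b : S, v b • P.root b with hx
  have h1 : ∀ a : S, P.RootForm x (P.root a) = 0 := by
    intro a
    have h2 : ∑ i, gram P S a i * v i = 0 := congrFun hv0 a
    rw [hx, map_sum, LinearMap.sum_apply]
    rw [← h2]
    refine Finset.sum_congr rfl fun b _ => ?_
    rw [map_smul, LinearMap.smul_apply, smul_eq_mul, mul_comm]
    rfl
  have h2 : P.RootForm x x = 0 := by
    nth_rw 2 [hx]
    rw [map_sum]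
    refine Finset.sum_eq_zero fun b _ => ?_
    rw [map_smul, h1 b, smul_zero]
  have h3 : x = 0 := P.eq_zero_of_mem_rootSpan_of_rootForm_self_eq_zero
    (Submodule.sum_mem _ fun b _ => Submodule.smul_mem _ _ (Submodule.subset_span ⟨_, rfl⟩)) h2
  have h4 : LinearIndependent ℤ (fun i : S => P.root i) := by
    have := hΔ.mono hS
    exact this
  rw [Fintype.linearIndependent_iff] at h4
  ext b
  exact h4 v h3 b

open Classical in
theorem det_cartan_pos (hΔ : LinearIndepOn ℤ P.root Δ) (S : Finset ι) (hS : (S : Set ι) ⊆ Δ) :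
    0 < Matrix.det (Matrix.of fun (a b : S) => P.pairing (b : ι) (a : ι)) := by
  have h1 : Matrix.diagonal (fun a : S => P.RootForm (P.root a) (P.root a)) *
      Matrix.of (fun (a b : S) => P.pairing (b : ι) (a : ι)) = (2 : ℤ) • gram P S := by
    ext a b
    rw [Matrix.diagonal_mul, Matrix.smul_apply, smul_eq_mul]
    change _ = 2 * P.RootForm (P.root b) (P.root a)
    rw [two_mul_rootForm, mul_comm]
    rfl
  have h2 := congrArg Matrix.det h1
  rw [Matrix.det_mul, Matrix.det_diagonal, Matrix.det_smul] at h2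
  have h3 : 0 < ∏ a : S, P.RootForm (P.root a) (P.root a) := Finset.prod_pos fun a _ => rootForm_pos P a
  have h4 : 0 < (gram P S).det := lt_of_le_of_ne (gram_det_nonneg P S) (gram_det_ne_zero hΔ S hS).symm
  have h5 : (0 : ℤ) < 2 ^ Fintype.card S * (gram P S).det := by positivity
  rw [← h2] at h5
  exact (mul_pos_iff_of_pos_left h3).1 h5

end K221.Det
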