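import Mathlib.GroupTheory.Index
import Mathlib.GroupTheory.OrderOfElement
import Mathlib.LinearAlgebra.RootSystem.WeylGroup
import Groth.Agent.RootD.K221.Prop

/-!
# The group generated by two reflections
-/

set_option autoImplicit false

open RootPairing

namespace K221.Dihedral

open K221.Prop

section Group

variable {G : Type*} [Group G] {a b : G}

theorem conj_mem (ha : a * a = 1) (hb : b * b = 1) {g : G} (hg : g ∈ Subgroup.zpowers (a * b)) :
    a * g * a ∈ Subgroup.zpowers (a * b) := by
  obtain ⟨k, rfl⟩ := hg
  have ha' : a⁻¹ = a := inv_eq_of_mul_eq_one_right ha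
  have hb' : b⁻¹ = b := inv_eq_of_mul_eq_one_right hb
  have h1 : a * (a * b) * a⁻¹ = (a * b)⁻¹ := by
    rw [← mul_assoc, ha, one_mul, mul_inv_rev, hb', ha']
  have h2 : a * (a * b) ^ k * a = ((a * b)⁻¹) ^ k := by
    rw [← h1, conj_zpow, ha']
  change a * (a * b) ^ k * a ∈ _
  rw [h2]
  exact Subgroup.zpow_mem _ (Subgroup.inv_mem _ (Subgroup.mem_zpowers _)) k

theorem notMem_zpowers (ha : a * a = 1) (hb : b * b = 1) (ha1 : a ≠ 1) (hb1 : b ≠ 1) :
    a ∉ Subgroup.zpowers (a * b) := by
  rintro ⟨k, hk⟩
  have hk' : (a * b) ^ k = a := hk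
  have hcomm : a * (a * b) = (a * b) * a := by
    nth_rw 1 [← hk']
    nth_rw 4 [← hk']
    exact (Commute.self_zpow (a * b) k).symm.eq
  have h1 : a * b = b * a := by
    have h3 : b = a * b * a := by rw [← hcomm, ← mul_assoc, ha, one_mul]
    calc a * b = a * (a * b * a) := by rw [← h3]
      _ = (a * a) * (b * a) := by group
      _ = b * a := by rw [ha, one_mul]
  have h2 : (a * b) * (a * b) = 1 := by
    calc (a * b) * (a * b) = (a * b) * (b * a) := by rw [h1]
      _ = a * (b * b) * a := by group
      _ = 1 := by rw [hb, mul_one, ha]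
  have h2' : (a * b) ^ (2 : ℤ) = 1 := by rw [zpow_two, h2]
  rcases Int.even_or_odd' k with ⟨m, hm | hm⟩
  · apply ha1
    rw [← hk', hm, zpow_mul, h2', one_zpow]
  · apply hb1
    have h3 : a = a * b := by
      nth_rw 1 [← hk']
      rw [hm, zpow_add, zpow_mul, h2', one_zpow, one_mul, zpow_one]
    have h4 : a * 1 = a * b := by rw [mul_one]; exact h3
    exact (mul_left_cancel h4).symm

theorem mem_or (ha : a * a = 1) (hb : b * b = 1) {g : G} (hg : g ∈ Subgroup.closure {a, b}) :
    g ∈ Subgroup.zpowers (a * b) ∨ g * a ∈ Subgroup.zpowers (a * b) := by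
  have ha' : a⁻¹ = a := inv_eq_of_mul_eq_one_right ha
  have hb' : b⁻¹ = b := inv_eq_of_mul_eq_one_right hb
  induction hg using Subgroup.closure_induction with
  | mem x hx =>
    right
    rcases hx with rfl | hx
    · rw [ha]; exact Subgroup.one_mem _
    · rw [Set.mem_singleton_iff] at hx
      subst hx
      have : x * a = (a * x)⁻¹ := by rw [mul_inv_rev, ha', hb']
      rw [this]
      exact Subgroup.inv_mem _ (Subgroup.mem_zpowers _)
  | one => exact Or.inl (Subgroup.one_mem _)
  | mul x y _ _ hx hy =>
    rcases hx with hx | hx <;> rcases hy with hy | hy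
    · exact Or.inl (Subgroup.mul_mem _ hx hy)
    · right
      rw [mul_assoc]
      exact Subgroup.mul_mem _ hx hy
    · right
      have h1 := Subgroup.mul_mem _ hx (conj_mem ha hb hy)
      have h2 : x * a * (a * y * a) = x * y * a := by
        calc x * a * (a * y * a) = x * (a * a) * y * a := by group
          _ = x * y * a := by rw [ha, mul_one]
      rwa [h2] at h1
    · left
      have h1 := Subgroup.mul_mem _ hx (conj_mem ha hb hy)
      have h2 : x * a * (a * (y * a) * a) = x * y := by
        calc x * a * (a * (y * a) * a) = x * (a * a) * y * (a * a) := by group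
          _ = x * y := by rw [ha, mul_one, mul_one]
      rwa [h2] at h1
  | inv x _ hx =>
    rcases hx with hx | hx
    · exact Or.inl (Subgroup.inv_mem _ hx)
    · right
      have h1 := conj_mem ha hb (Subgroup.inv_mem _ hx)
      have h2 : a * (x * a)⁻¹ * a = x⁻¹ * a := by
        rw [mul_inv_rev, ha', ← mul_assoc, ha, one_mul]
      rwa [h2] at h1

theorem card_closure_pair (ha : a * a = 1) (hb : b * b = 1) (ha1 : a ≠ 1) (hb1 : b ≠ 1) :
    Nat.card (Subgroup.closure {a, b} : Subgroup G) = 2 * orderOf (a * b) := by
  have hle : Subgroup.zpowers (a * b) ≤ Subgroup.closure {a, b} := by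
    rw [Subgroup.zpowers_le]
    exact Subgroup.mul_mem _ (Subgroup.subset_closure (by simp)) (Subgroup.subset_closure (by simp))
  have h1 : (Subgroup.zpowers (a * b)).relIndex (Subgroup.closure {a, b}) = 2 := by
    rw [Subgroup.relIndex_eq_two_iff]
    refine ⟨a, Subgroup.subset_closure (by simp), fun g hg => ?_⟩
    have h2 : ¬ (g * a ∈ Subgroup.zpowers (a * b) ∧ g ∈ Subgroup.zpowers (a * b)) := by
      rintro ⟨h3, h4⟩
      apply notMem_zpowers ha hb ha1 hb1
      have := Subgroup.mul_mem _ (Subgroup.inv_mem _ h4) h3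
      rwa [inv_mul_cancel_left] at this
    have h3 := mem_or ha hb hg
    rw [xor_iff_or_and_not_and]
    exact ⟨h3.symm, h2⟩
  have h2 := Subgroup.card_mul_index ((Subgroup.zpowers (a * b)).subgroupOf (Subgroup.closure {a, b}))
  rw [Subgroup.relIndex] at h1
  rw [h1] at h2
  rw [← h2, mul_comm]
  congr 1
  rw [← Nat.card_zpowers]
  exact Nat.card_congr (Subgroup.subgroupOfEquivOfLe hle).toEquiv

end Group

section Root

variable {ι M N : Type*} [AddCommGroup M] [AddCommGroup N] (P : RootPairing ι ℤ M N)

theorem refl_mul_self (j : ι) : Equiv.reflection P j * Equiv.reflection P j = 1 := by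
  rw [mul_eq_one_iff_eq_inv, Equiv.reflection_inv]

theorem refl_ne_one (j : ι) : Equiv.reflection P j ≠ 1 := by
  intro h
  have h1 : P.reflectionPerm j j = j := by
    have := congrArg (fun g : P.Aut => g • j) h
    exact this
  exact ne_neg_idx P j h1

theorem root_smul (g : P.Aut) (i : ι) : P.root (g • i) = g • P.root i :=
  Equiv.root_indexEquiv_eq_smul P i g

/-- An element of the group generated by `s_i s_j` which fixes `i` and `j` is trivial. -/
theorem eq_one_of_fix [Finite ι] {i j : ι} (hli : LinearIndependent ℤ ![P.root i, P.root j]) (m : ℕ)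
    (hi : ((Equiv.reflection P i * Equiv.reflection P j) ^ m) • i = i)
    (hj : ((Equiv.reflection P i * Equiv.reflection P j) ^ m) • j = j) :
    (Equiv.reflection P i * Equiv.reflection P j) ^ m = 1 := by
  have := torsionFree_left P
  have : Module.IsReflexive ℤ M := .of_isPerfPair P.toLinearMap
  set g := (Equiv.reflection P i * Equiv.reflection P j) ^ m with hg
  have hd : P.coxeterWeight i j ≠ 4 := P.linearIndependent_iff_coxeterWeight_ne_four.1 hli
  have hd' : (4 - P.pairing i j * P.pairing j i) ≠ 0 := by
    intro h0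
    apply hd
    have : P.coxeterWeight i j = P.pairing i j * P.pairing j i := rfl
    omega
  have hfix : ∀ y : M, P.coroot' i y = 0 → P.coroot' j y = 0 → g • y = y := by
    intro y h1 h2
    have h3 : Equiv.reflection P i • y = y := by
      rw [Equiv.reflection_smul, reflection_apply, h1, zero_smul, sub_zero]
    have h4 : Equiv.reflection P j • y = y := by
      rw [Equiv.reflection_smul, reflection_apply, h2, zero_smul, sub_zero]
    have h5 : ∀ n : ℕ, ((Equiv.reflection P i * Equiv.reflection P j) ^ n) • y = y := by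
      intro n
      induction n with
      | zero => rw [pow_zero, one_smul]
      | succ n ih => rw [pow_succ, mul_smul, mul_smul, h4, h3, ih]
    exact h5 m
  apply Equiv.weightHom_injective P
  ext x
  change g • x = x
  have hri : g • P.root i = P.root i := by rw [← root_smul, hi]
  have hrj : g • P.root j = P.root j := by rw [← root_smul, hj]
  set d := 4 - P.pairing i j * P.pairing j i with hdd
  set s := 2 * P.coroot' i x - P.pairing j i * P.coroot' j x with hs
  set t := 2 * P.coroot' j x - P.pairing i j * P.coroot' i x with ht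
  have hy := hfix (d • x - s • P.root i - t • P.root j)
    (by simp only [map_sub, map_smul, smul_eq_mul, root_coroot'_eq_pairing, pairing_same, hs, ht, hdd]
        ring)
    (by simp only [map_sub, map_smul, smul_eq_mul, root_coroot'_eq_pairing, pairing_same, hs, ht, hdd]
        ring)
  rw [smul_sub, smul_sub, smul_comm g s, smul_comm g t, hri, hrj, smul_comm g d] at hy
  have h1 : d • (g • x) = d • x := by
    have := sub_left_injective (sub_left_injective hy)
    exact this
  exact smul_right_injective M hd' h1

theorem card_closure_reflection_pair [Finite ι] {i j : ι}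
    (hli : LinearIndependent ℤ ![P.root i, P.root j]) (n : ℕ)
    (hn : IsLeast {m : ℕ | 0 < m ∧ ((Equiv.reflection P i * Equiv.reflection P j) ^ m) • i = i ∧
      ((Equiv.reflection P i * Equiv.reflection P j) ^ m) • j = j} n) :
    Nat.card (Subgroup.closure ({Equiv.reflection P i, Equiv.reflection P j} : Set P.Aut)) = 2 * n := by
  rw [card_closure_pair (refl_mul_self P i) (refl_mul_self P j) (refl_ne_one P i) (refl_ne_one P j)]
  congr 1
  obtain ⟨⟨h0, h1, h2⟩, hmin⟩ := hn
  rw [orderOf_eq_iff h0]
  refine ⟨eq_one_of_fix P hli n h1 h2, fun m hm hm0 h => ?_⟩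
  have := hmin (a := m) ⟨hm0, by rw [h, one_smul], by rw [h, one_smul]⟩
  omega

end Root

end K221.Dihedral
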