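import Groth.Agent.RootD.K221.Prop

/-!
# The height and the half-sum of positive coroots
-/

set_option autoImplicit false

open RootPairing

namespace K221.Height

open K221.Prop

variable {ι M N : Type*} [AddCommGroup M] [AddCommGroup N] {P : RootPairing ι ℤ M N} [Fintype ι]
  [P.IsReduced] (b : P.Base)

theorem isPos_neg_iff (i : ι) : b.IsPos (P.reflectionPerm i i) ↔ ¬ b.IsPos i :=
  Base.IsPos.neg_iff_not b i

open Classical in
/-- `⟨α, 2ρ^∨⟩ = 2` for a simple root `α`. -/
theorem sum_simple {l : ι} (hl : l ∈ b.support) : ∑ j, (if b.IsPos j then P.pairing l j else 0) = 2 := by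
  have hlp := b.isPos_of_mem_support hl
  rw [← Finset.sum_filter]
  set T := (Finset.univ.filter (fun j => b.IsPos j)).erase l with hT
  have hlT : l ∈ Finset.univ.filter (fun j => b.IsPos j) := by simpa using hlp
  rw [← Finset.add_sum_erase _ _ hlT, pairing_same]
  have h0 : ∑ j ∈ T, P.pairing l j = 0 := by
    have h1 : ∑ j ∈ T, P.pairing l j = ∑ j ∈ T, P.pairing l (P.reflectionPerm l j) := by
      symm
      refine Finset.sum_bij (fun j _ => P.reflectionPerm l j) ?_ ?_ ?_ ?_
      · intro j hj
        simp only [hT, Finset.mem_erase, Finset.mem_filter, Finset.mem_univ, true_and] at hj ⊢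
        refine ⟨?_, hj.2.reflectionPerm hl hj.1⟩
        intro h
        have h2 : j = P.reflectionPerm l l := by
          have := P.reflectionPerm_self l j
          rw [h] at this
          exact this.symm
        rw [h2, isPos_neg_iff] at hj
        exact hj.2 hlp
      · intro j _ j' _ h
        exact (P.reflectionPerm l).injective h
      · intro j hj
        refine ⟨P.reflectionPerm l j, ?_, P.reflectionPerm_self l j⟩
        simp only [hT, Finset.mem_erase, Finset.mem_filter, Finset.mem_univ, true_and] at hj ⊢
        refine ⟨?_, hj.2.reflectionPerm hl hj.1⟩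
        intro h
        have h2 : j = P.reflectionPerm l l := by
          have := P.reflectionPerm_self l j
          rw [h] at this
          exact this.symm
        rw [h2, isPos_neg_iff] at hj
        exact hj.2 hlp
      · intro j _; rfl
    have h2 : ∀ j, P.pairing l (P.reflectionPerm l j) = - P.pairing l j := by
      intro j
      rw [pairing_reflectionPerm, pairing_reflectionPerm_self_left]
    simp_rw [h2, Finset.sum_neg_distrib] at h1
    omega
  rw [h0, add_zero]

open Classical in
theorem two_mul_height (i : ι) :
    2 * b.height i = ∑ j, if b.IsPos j then P.pairing i j else 0 := by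
  obtain ⟨f, -, -, hf⟩ := b.exists_root_eq_sum_int i
  rw [Base.height_eq_sum hf]
  have h1 : ∀ j, P.pairing i j = ∑ l ∈ b.support, f l * P.pairing l j := by
    intro j
    have := congrArg (P.coroot' j) hf
    simpa using this
  calc 2 * ∑ l ∈ b.support, f l = ∑ l ∈ b.support, f l * 2 := by
        rw [Finset.mul_sum]; exact Finset.sum_congr rfl fun _ _ => mul_comm _ _
    _ = ∑ l ∈ b.support, f l * ∑ j, (if b.IsPos j then P.pairing l j else 0) := by
        refine Finset.sum_congr rfl fun l hl => ?_
        rw [sum_simple b hl]
    _ = ∑ l ∈ b.support, ∑ j, f l * (if b.IsPos j then P.pairing l j else 0) := by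
        simp_rw [Finset.mul_sum]
    _ = ∑ j, ∑ l ∈ b.support, f l * (if b.IsPos j then P.pairing l j else 0) := Finset.sum_comm
    _ = ∑ j, if b.IsPos j then P.pairing i j else 0 := by
        refine Finset.sum_congr rfl fun j _ => ?_
        split_ifs
        · exact (h1 j).symm
        · simp

end K221.Height
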