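import Groth.Agent.RootD.K221.Form

/-!
# The length homomorphism of an irreducible root datum
-/

set_option autoImplicit false

open RootPairing

namespace K221.LenHom

open K221.Prop K221.Conn K221.Form

variable {ι M N : Type*} [AddCommGroup M] [AddCommGroup N] (P : RootPairing ι ℤ M N)

/-- An additive map on the root lattice is determined by its values on the roots. -/
theorem addHom_ext {A : Type*} [AddCommGroup A]
    {u v : Submodule.span ℤ (Set.range P.root) →+ A}
    (h : ∀ i : ι, u ⟨P.root i, Submodule.subset_span (Set.mem_range_self i)⟩ =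
      v ⟨P.root i, Submodule.subset_span (Set.mem_range_self i)⟩) : u = v := by
  ext ⟨x, hx⟩
  induction hx using Submodule.span_induction with
  | mem x hx =>
    obtain ⟨i, rfl⟩ := hx
    exact h i
  | zero => exact (map_zero u).trans (map_zero v).symm
  | add x y hx hy h1 h2 =>
    have e : (⟨x + y, Submodule.add_mem _ hx hy⟩ : Submodule.span ℤ (Set.range P.root)) =
      ⟨x, hx⟩ + ⟨y, hy⟩ := rfl
    rw [e, map_add, map_add, h1, h2]
  | smul a x hx h1 =>
    have e : (⟨a • x, Submodule.smul_mem _ a hx⟩ : Submodule.span ℤ (Set.range P.root)) =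
      a • ⟨x, hx⟩ := rfl
    rw [e, map_zsmul, map_zsmul, h1]

variable {P} [Fintype ι]

theorem exists_hom (i₀ : ι)
    (hdvd : ∀ i : ι, P.RootForm (P.root i₀) (P.root i₀) ∣ P.RootForm (P.root i) (P.root i)) :
    ∃ u : Submodule.span ℤ (Set.range P.root) →+ N, ∀ i : ι,
      u ⟨P.root i, Submodule.subset_span (Set.mem_range_self i)⟩ =
        (P.RootForm (P.root i) (P.root i) / P.RootForm (P.root i₀) (P.root i₀)) • P.coroot i := by
  have := torsionFree_right P
  set l := P.RootForm (P.root i₀) (P.root i₀) with hl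
  have hl0 : l ≠ 0 := (rootForm_pos P i₀).ne'
  let m : N →ₗ[ℤ] N := l • LinearMap.id
  have hm : ∀ x, m x = l • x := fun x => rfl
  have hinj : Function.Injective m := by
    intro x y hxy
    rw [hm, hm] at hxy
    exact smul_right_injective N hl0 hxy
  let v : Submodule.span ℤ (Set.range P.root) →ₗ[ℤ] N :=
    ((2 : ℤ) • P.Polarization) ∘ₗ (Submodule.span ℤ (Set.range P.root)).subtype
  have hv : ∀ i : ι, v ⟨P.root i, Submodule.subset_span (Set.mem_range_self i)⟩ =
      m ((P.RootForm (P.root i) (P.root i) / l) • P.coroot i) := by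
    intro i
    have h1 := P.rootForm_self_smul_coroot i
    rw [hm, smul_smul, Int.mul_ediv_cancel' (hdvd i), h1]
    change (2 : ℤ) • P.Polarization (P.root i) = _
    rw [ofNat_zsmul]
  have hmem : ∀ x, v x ∈ LinearMap.range m := by
    rintro ⟨x, hx⟩
    induction hx using Submodule.span_induction with
    | mem x hx =>
      obtain ⟨i, rfl⟩ := hx
      exact ⟨_, (hv i).symm⟩
    | zero => exact (map_zero v).symm ▸ Submodule.zero_mem _
    | add x y hx hy h1 h2 =>
      have e : (⟨x + y, Submodule.add_mem _ hx hy⟩ : Submodule.span ℤ (Set.range P.root)) =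
        ⟨x, hx⟩ + ⟨y, hy⟩ := rfl
      rw [e, map_add]
      exact Submodule.add_mem _ h1 h2
    | smul a x hx h1 =>
      have e : (⟨a • x, Submodule.smul_mem _ a hx⟩ : Submodule.span ℤ (Set.range P.root)) =
        a • ⟨x, hx⟩ := rfl
      rw [e, map_smul]
      exact Submodule.smul_mem _ _ h1
  let e := LinearEquiv.ofInjective m hinj
  refine ⟨(e.symm.toLinearMap ∘ₗ v.codRestrict _ hmem).toAddMonoidHom, fun i => ?_⟩
  change e.symm (v.codRestrict _ hmem _) = _
  rw [LinearEquiv.symm_apply_eq]
  apply Subtype.ext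
  exact hv i

theorem existsUnique_hom (hirr : Irr P) (i₀ : ι)
    (hmin : ∀ i : ι, P.RootForm (P.root i₀) (P.root i₀) ≤ P.RootForm (P.root i) (P.root i)) :
    ∃! u : Submodule.span ℤ (Set.range P.root) →+ N, ∀ i : ι,
      u ⟨P.root i, Submodule.subset_span (Set.mem_range_self i)⟩ =
        (P.RootForm (P.root i) (P.root i) / P.RootForm (P.root i₀) (P.root i₀)) • P.coroot i := by
  obtain ⟨u, hu⟩ := exists_hom i₀ (rootForm_dvd hirr i₀ hmin)
  refine ⟨u, hu, fun v hv => addHom_ext P fun i => ?_⟩
  rw [hu, hv]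

end K221.LenHom
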