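import Groth.Agent.RootD.K221.Simple

/-!
# Orthogonal partitions of a system of simple roots
-/

set_option autoImplicit false

open RootPairing

namespace K221.Ortho

open K221.Prop K221.Conn K221.Form K221.Sum K221.Simple

variable {ι M N : Type*} [AddCommGroup M] [AddCommGroup N] {P : RootPairing ι ℤ M N} [Fintype ι]
  {Δ Δ' : Set ι}

/-- If `α` is in the span of `S` and `β` is orthogonal to `S` then `⟨α, β^∨⟩ = 0`. -/
theorem pairing_of_inSpan {S : Set ι} {k l : ι} (hk : k ∈ RootD.inSpan P S)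
    (h : ∀ i ∈ S, P.pairing i l = 0) : P.pairing k l = 0 := by
  obtain ⟨c, hc, e⟩ := (mem_span_iff P S _).1 hk
  rw [← root_coroot'_eq_pairing, e, map_sum]
  refine Finset.sum_eq_zero fun i _ => ?_
  by_cases hi : i ∈ S
  · rw [map_smul, root_coroot'_eq_pairing, h i hi, smul_zero]
  · rw [hc i hi]; simp

/-- Adding a root of `T` to a root of the span of `S`, with `S`, `T` disjoint orthogonal subsets of `Δ`,
never gives a root, if the result is positive along `T`. -/
theorem add_ne (hΔ : RootD.IsSimpleSys P Δ) {S T : Set ι} (hS : S ⊆ Δ) (hT : T ⊆ Δ)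
    (hST : Disjoint S T) (horth : ∀ i ∈ S, ∀ j ∈ T, P.pairing i j = 0) {k' l k : ι}
    (hk' : k' ∈ RootD.inSpan P S) (hpos : P.root k' ∈ RootD.natSpan P Δ) (hl : l ∈ T)
    (h : P.root k = P.root k' + P.root l) : False := by
  classical
  have h0 : P.pairing k' l = 0 := pairing_of_inSpan hk' (fun i hi => horth i hi l hl)
  have h1 : P.root (P.reflectionPerm l k) = P.root k' - P.root l := by
    rw [root_reflectionPerm, h, map_add, reflection_apply_self, reflection_apply_root, h0, zero_smul,
      sub_zero, ← sub_eq_add_neg]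
  obtain ⟨c, hc, e⟩ := (mem_span_iff P S _).1 hk'
  have hcΔ : ∀ i ∉ Δ, c i = 0 := fun i hi => hc i (fun h => hi (hS h))
  have hlS : l ∉ S := fun h => Set.disjoint_left.1 hST h hl
  have hl0 : c l = 0 := hc l hlS
  have h2 : P.root (P.reflectionPerm l k) = ∑ i, (c - Pi.single l 1 : ι → ℤ) i • P.root i := by
    simp_rw [Pi.sub_apply, sub_smul, Finset.sum_sub_distrib]
    rw [h1, e]
    congr 1
    rw [Finset.sum_eq_single l]
    · simp
    · intro j _ hj; simp [Pi.single_eq_of_ne hj]
    · simp
  have h3 := nonneg_or_nonpos hΔ (c := c - Pi.single l 1) (by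
    intro i hi
    have hil : i ≠ l := by rintro rfl; exact hi (hT hl)
    simp [hcΔ i hi, Pi.single_eq_of_ne hil]) h2
  have hcnn : ∀ i, 0 ≤ c i := by
    obtain ⟨d, hd, e', h4⟩ := exists_coord hΔ k'
    have hcd : c = d := coord_unique hΔ.linInd hcΔ hd (e.symm.trans e')
    rcases h4 with h4 | h4
    · rw [hcd]; exact h4.2
    · exfalso
      obtain ⟨n, hn, e''⟩ := (mem_natSpan_iff P Δ _).1 hpos
      have h5 : (fun i => (n i : ℤ)) = d := coord_unique hΔ.linInd
        (fun i hi => by simp [hn i hi]) hd (e''.symm.trans e')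
      apply P.ne_zero k'
      rw [e']
      refine Finset.sum_eq_zero fun i _ => ?_
      have h6 := h4.2 i
      rw [← h5] at h6 ⊢
      have h7 : (n i : ℤ) = 0 := le_antisymm h6 (by positivity)
      simp [h7]
  rcases h3 with h3 | h3
  · have := h3 l
    simp [hl0] at this
  · apply P.ne_zero k'
    rw [e]
    refine Finset.sum_eq_zero fun i _ => ?_
    by_cases hil : i = l
    · rw [hil, hl0, zero_smul]
    · have h4 := h3 i
      rw [Pi.sub_apply, Pi.single_eq_of_ne hil, sub_zero] at h4
      rw [le_antisymm h4 (hcnn i), zero_smul]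

theorem pos_mem_or (hΔ : RootD.IsSimpleSys P Δ) (hsub : Δ' ⊆ Δ)
    (horth : ∀ i ∈ Δ', ∀ j ∈ Δ \ Δ', P.pairing i j = 0) :
    ∀ (n : ℕ) (k : ι) (c : ι → ℕ), (∀ i ∉ Δ, c i = 0) → P.root k = ∑ i, (c i : ℤ) • P.root i →
      ∑ i, c i = n → k ∈ RootD.inSpan P Δ' ∨ k ∈ RootD.inSpan P (Δ \ Δ') := by
  classical
  intro n
  induction n with
  | zero =>
    intro k c hc e h0
    exfalso
    apply P.ne_zero k
    rw [e]
    refine Finset.sum_eq_zero fun i _ => ?_
    have : c i = 0 := by
      have := Finset.sum_eq_zero_iff.1 h0 i (Finset.mem_univ i)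
      exact this
    rw [this]; simp
  | succ n ih =>
    intro k c hc e hn
    -- find a simple root with positive pairing
    have h1 : (2 : ℤ) = ∑ i, (c i : ℤ) * P.pairing i k := by
      have := congrArg (P.coroot' k) e
      simpa using this
    have h2 : ∃ l ∈ Finset.univ, 0 < (c l : ℤ) * P.pairing l k := by
      by_contra! hn
      have := Finset.sum_nonpos hn
      omega
    obtain ⟨l, -, hl⟩ := h2
    have hcl : c l ≠ 0 := by
      intro h0
      rw [h0] at hl
      simp at hl
    have hlΔ : l ∈ Δ := by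
      by_contra h
      exact hcl (hc l h)
    have hp : 0 < P.pairing l k := by
      by_contra! hn
      have : (0 : ℤ) < c l := by positivity
      nlinarith
    have hmemS : ∀ {S : Set ι} {l : ι}, l ∈ S → l ∈ RootD.inSpan P S := fun {S l} hl =>
      Submodule.subset_span ⟨l, hl, rfl⟩
    by_cases hkl : k = l
    · subst hkl
      by_cases hk : k ∈ Δ'
      · exact Or.inl (hmemS hk)
      · exact Or.inr (hmemS ⟨hlΔ, hk⟩)
    obtain ⟨k', hk'⟩ := exists_sub P ((pairing_pos_comm P).1 hp) hkl
    have h3 : P.root k' = ∑ i, ((c i - (Pi.single l 1 : ι → ℕ) i : ℕ) : ℤ) • P.root i := by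
      rw [hk', e]
      have h4 : P.root l = ∑ i, ((Pi.single l 1 : ι → ℕ) i : ℤ) • P.root i := by
        rw [Finset.sum_eq_single l]
        · simp
        · intro j _ hj; simp [Pi.single_eq_of_ne hj]
        · simp
      rw [h4, ← Finset.sum_sub_distrib]
      refine Finset.sum_congr rfl fun i _ => ?_
      rw [← sub_smul]
      congr 1
      by_cases hil : i = l
      · subst hil
        simp only [Pi.single_eq_same]
        omega
      · simp [Pi.single_eq_of_ne hil]
    have h5 : ∑ i, (c i - (Pi.single l 1 : ι → ℕ) i) = n := by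
      have h6 : ∑ i, c i = ∑ i, (c i - (Pi.single l 1 : ι → ℕ) i) + ∑ i, (Pi.single l 1 : ι → ℕ) i := by
        rw [← Finset.sum_add_distrib]
        refine Finset.sum_congr rfl fun i _ => ?_
        by_cases hil : i = l
        · subst hil
          simp only [Pi.single_eq_same]
          omega
        · simp [Pi.single_eq_of_ne hil]
      rw [hn] at h6
      simp at h6
      omega
    have hpos' : P.root k' ∈ RootD.natSpan P Δ := (mem_natSpan_iff P Δ _).2
      ⟨_, fun i hi => by simp [hc i hi], h3⟩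
    have h7 : P.root k = P.root k' + P.root l := by rw [hk']; abel
    have hdisj : Disjoint Δ' (Δ \ Δ') := Set.disjoint_sdiff_right
    rcases ih k' _ (fun i hi => by simp [hc i hi]) h3 h5 with h8 | h8
    · by_cases hlΔ' : l ∈ Δ'
      · left
        change P.root k ∈ Submodule.span ℤ (P.root '' Δ')
        rw [h7]
        exact Submodule.add_mem _ h8 (hmemS hlΔ')
      · exact (add_ne hΔ hsub Set.sdiff_subset hdisj horth h8 hpos' ⟨hlΔ, hlΔ'⟩ h7).elim
    · by_cases hlΔ' : l ∈ Δ'
      · exact (add_ne hΔ Set.sdiff_subset hsub hdisj.symm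
          (fun i hi j hj => (pairing_zero_comm P).1 (horth j hj i hi)) h8 hpos' hlΔ' h7).elim
      · right
        change P.root k ∈ Submodule.span ℤ (P.root '' (Δ \ Δ'))
        rw [h7]
        exact Submodule.add_mem _ h8 (hmemS (S := Δ \ Δ') ⟨hlΔ, hlΔ'⟩)

theorem mem_or (hΔ : RootD.IsSimpleSys P Δ) (hsub : Δ' ⊆ Δ)
    (horth : ∀ i ∈ Δ', ∀ j ∈ Δ \ Δ', P.pairing i j = 0) (k : ι) :
    k ∈ RootD.inSpan P Δ' ∨ k ∈ RootD.inSpan P (Δ \ Δ') := by
  rcases hΔ.mem_or_neg_mem k with h | h
  · obtain ⟨c, hc, e⟩ := (mem_natSpan_iff P Δ _).1 h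
    exact pos_mem_or hΔ hsub horth _ k c hc e rfl
  · rw [← root_neg P k] at h
    obtain ⟨c, hc, e⟩ := (mem_natSpan_iff P Δ _).1 h
    have hneg : ∀ {S : Set ι}, P.reflectionPerm k k ∈ RootD.inSpan P S → k ∈ RootD.inSpan P S := by
      intro S h
      change P.root (P.reflectionPerm k k) ∈ Submodule.span ℤ (P.root '' S) at h
      rw [root_neg, Submodule.neg_mem_iff] at h
      exact h
    exact (pos_mem_or hΔ hsub horth _ _ c hc e rfl).imp hneg hneg

end K221.Ortho
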