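import Groth.Agent.RootD.K221.Form

/-!
# `p`-morphisms of root data
-/

set_option autoImplicit false

open RootPairing

namespace K221.PMor

open K221.Prop K221.Conn K221.Form

variable {ι M N ι' M' N' : Type*} [AddCommGroup M] [AddCommGroup N] [AddCommGroup M'] [AddCommGroup N']
    {P : RootPairing ι ℤ M N} {P' : RootPairing ι' ℤ M' N'} {f : M' →ₗ[ℤ] M} {g : N →ₗ[ℤ] N'}
    {u : ι ≃ ι'} {q : ι → ℕ}

theorem pairing_eq (hfg : ∀ (m' : M') (n : N), P.toLinearMap (f m') n = P'.toLinearMap m' (g n))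
    (hroot : ∀ i : ι, f (P'.root (u i)) = (q i : ℤ) • P.root i)
    (hcoroot : ∀ i : ι, g (P.coroot i) = (q i : ℤ) • P'.coroot (u i)) (i j : ι) :
    (q j : ℤ) * P.pairing j i = (q i : ℤ) * P'.pairing (u j) (u i) := by
  have h := hfg (P'.root (u j)) (P.coroot i)
  rw [hroot, hcoroot, map_smul, map_smul, LinearMap.smul_apply, smul_eq_mul, smul_eq_mul] at h
  exact h

theorem ratio [Fintype ι] [Fintype ι']
    (hfg : ∀ (m' : M') (n : N), P.toLinearMap (f m') n = P'.toLinearMap m' (g n))
    (hroot : ∀ i : ι, f (P'.root (u i)) = (q i : ℤ) • P.root i)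
    (hcoroot : ∀ i : ι, g (P.coroot i) = (q i : ℤ) • P'.coroot (u i)) (hq : ∀ i, 0 < q i)
    {i j : ι} (h : P.pairing i j ≠ 0) :
    ((q i : ℤ) ^ 2 * P.RootForm (P.root i) (P.root i)) * P'.RootForm (P'.root (u j)) (P'.root (u j)) =
      ((q j : ℤ) ^ 2 * P.RootForm (P.root j) (P.root j)) *
        P'.RootForm (P'.root (u i)) (P'.root (u i)) := by
  have h1 := pairing_eq hfg hroot hcoroot i j
  have h2 := pairing_eq hfg hroot hcoroot j i
  have h3 := pairing_mul_swap P i j
  have h4 := pairing_mul_swap P' (u i) (u j)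
  have hi : (0 : ℤ) < q i := by exact_mod_cast hq i
  have hj : (0 : ℤ) < q j := by exact_mod_cast hq j
  have hb : P'.pairing (u i) (u j) ≠ 0 := by
    intro h0
    rw [h0, mul_zero, mul_eq_zero] at h2
    rcases h2 with h2 | h2
    · omega
    · exact h h2
  have ha : P.pairing j i ≠ 0 := fun h0 => h ((pairing_zero_comm P).1 h0)
  generalize P.RootForm (P.root i) (P.root i) = li at *
  generalize P.RootForm (P.root j) (P.root j) = lj at *
  generalize P'.RootForm (P'.root (u i)) (P'.root (u i)) = li' at *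
  generalize P'.RootForm (P'.root (u j)) (P'.root (u j)) = lj' at *
  apply mul_right_cancel₀ (mul_ne_zero ha hb)
  calc (q i : ℤ) ^ 2 * li * lj' * (P.pairing j i * P'.pairing (u i) (u j))
      = (q i : ℤ) ^ 2 * (P.pairing j i * li) * (P'.pairing (u i) (u j) * lj') := by ring
    _ = (q i : ℤ) ^ 2 * (P.pairing i j * lj) * (P'.pairing (u j) (u i) * li') := by rw [h3, h4]
    _ = (q i * P.pairing i j) * (q i * P'.pairing (u j) (u i)) * lj * li' := by ring
    _ = (q j * P'.pairing (u i) (u j)) * (q j * P.pairing j i) * lj * li' := by rw [h1, h2]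
    _ = (q j : ℤ) ^ 2 * lj * li' * (P.pairing j i * P'.pairing (u i) (u j)) := by ring

theorem ratio_irr [Fintype ι] [Fintype ι'] (hirr : Irr P)
    (hfg : ∀ (m' : M') (n : N), P.toLinearMap (f m') n = P'.toLinearMap m' (g n))
    (hroot : ∀ i : ι, f (P'.root (u i)) = (q i : ℤ) • P.root i)
    (hcoroot : ∀ i : ι, g (P.coroot i) = (q i : ℤ) • P'.coroot (u i)) (hq : ∀ i, 0 < q i)
    (i j : ι) :
    ((q i : ℤ) ^ 2 * P.RootForm (P.root i) (P.root i)) * P'.RootForm (P'.root (u j)) (P'.root (u j)) =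
      ((q j : ℤ) ^ 2 * P.RootForm (P.root j) (P.root j)) *
        P'.RootForm (P'.root (u i)) (P'.root (u i)) := by
  refine hirr.induction (r := fun i j => ((q i : ℤ) ^ 2 * P.RootForm (P.root i) (P.root i)) *
      P'.RootForm (P'.root (u j)) (P'.root (u j)) =
      ((q j : ℤ) ^ 2 * P.RootForm (P.root j) (P.root j)) *
        P'.RootForm (P'.root (u i)) (P'.root (u i))) (fun _ => rfl) ?_
    (fun i j h => ratio hfg hroot hcoroot hq h) i j
  intro i j k h1 h2
  have hj := rootForm_pos P' (u j)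
  apply mul_right_cancel₀ hj.ne'
  generalize P.RootForm (P.root i) (P.root i) = li at *
  generalize P.RootForm (P.root j) (P.root j) = lj at *
  generalize P.RootForm (P.root k) (P.root k) = lk at *
  generalize P'.RootForm (P'.root (u i)) (P'.root (u i)) = li' at *
  generalize P'.RootForm (P'.root (u j)) (P'.root (u j)) = lj' at *
  generalize P'.RootForm (P'.root (u k)) (P'.root (u k)) = lk' at *
  calc (q i : ℤ) ^ 2 * li * lk' * lj' = ((q i : ℤ) ^ 2 * li * lj') * lk' := by ring
    _ = ((q j : ℤ) ^ 2 * lj * lk') * li' := by rw [h1]; ring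
    _ = (q k : ℤ) ^ 2 * lk * li' * lj' := by rw [h2]; ring

end K221.PMor
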