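import Groth.Agent.RootD.K221.PMor
import Groth.Agent.RootD.K221.Simple
import Groth.Agent.S5446

/-!
# `p`-morphisms and systems of simple / positive roots; simple systems of the dual datum
-/

set_option autoImplicit false

open RootPairing

namespace K221.PSys

open K221.Prop K221.Conn K221.Form K221.PMor K221.Simple

/-- Indivisibility in a reduced datum. -/
theorem isIndiv_of_isReduced {ι M N : Type*} [AddCommGroup M] [AddCommGroup N]
    (P : RootPairing ι ℤ M N) [P.IsReduced] (i : ι) : RootD.IsIndiv P i := by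
  have := torsionFree_left P
  intro j hj
  exact P.nsmul_notMem_range_root (n := 2) (i := j) ⟨i, by rw [← hj, ← natCast_zsmul]; rfl⟩

section PMor

variable {ι M N ι' M' N' : Type*} [AddCommGroup M] [AddCommGroup N] [AddCommGroup M'] [AddCommGroup N']
    {P : RootPairing ι ℤ M N} {P' : RootPairing ι' ℤ M' N'} {f : M' →ₗ[ℤ] M} {g : N →ₗ[ℤ] N'}
    {u : ι ≃ ι'} {q : ι → ℕ} [Fintype ι] [Fintype ι']

theorem f_sum (hroot : ∀ i : ι, f (P'.root (u i)) = (q i : ℤ) • P.root i) (c : ι → ℤ) :
    f (∑ i, c i • P'.root (u i)) = ∑ i, (c i * q i) • P.root i := by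
  rw [map_sum]
  refine Finset.sum_congr rfl fun i _ => ?_
  rw [map_smul, hroot, smul_smul]

theorem sum_zero_iff (hfg : ∀ (m' : M') (n : N), P.toLinearMap (f m') n = P'.toLinearMap m' (g n))
    (hroot : ∀ i : ι, f (P'.root (u i)) = (q i : ℤ) • P.root i)
    (hcoroot : ∀ i : ι, g (P.coroot i) = (q i : ℤ) • P'.coroot (u i)) (hq : ∀ i, 0 < q i)
    (c : ι → ℤ) :
    ∑ i, c i • P'.root (u i) = 0 ↔ ∑ i, (c i * q i) • P.root i = 0 := by
  constructor
  · intro h
    rw [← f_sum hroot, h, map_zero]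
  · intro h
    refine eq_zero_of_pairing (P := P') (Submodule.sum_mem _ fun i _ =>
      Submodule.smul_mem _ _ (Submodule.subset_span ⟨_, rfl⟩)) ?_
    intro j
    set x := ∑ i, c i • P'.root (u i) with hx
    have h1 : f x = 0 := by rw [hx, f_sum hroot, h]
    have h2 := hfg x (P.coroot (u.symm j))
    rw [h1, map_zero, LinearMap.zero_apply, hcoroot, map_smul, Equiv.apply_symm_apply, smul_eq_mul,
      eq_comm, mul_eq_zero] at h2
    rcases h2 with h2 | h2
    · have := hq (u.symm j)
      omega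
    · exact h2

/-- The cofactor `∏_{k ≠ i} q_k`. -/
noncomputable def cof (q : ι → ℕ) (i : ι) : ℕ := open Classical in ∏ k ∈ Finset.univ.erase i, q k

omit [Fintype ι'] in
theorem cof_mul (q : ι → ℕ) (i : ι) : cof q i * q i = ∏ k, q k := by
  classical
  exact Finset.prod_erase_mul _ _ (Finset.mem_univ i)

omit [Fintype ι'] in
theorem cof_pos (hq : ∀ i, 0 < q i) (i : ι) : 0 < cof q i := by
  classical
  exact Finset.prod_pos fun k _ => hq k

theorem sum_zero_iff' (hfg : ∀ (m' : M') (n : N), P.toLinearMap (f m') n = P'.toLinearMap m' (g n))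
    (hroot : ∀ i : ι, f (P'.root (u i)) = (q i : ℤ) • P.root i)
    (hcoroot : ∀ i : ι, g (P.coroot i) = (q i : ℤ) • P'.coroot (u i)) (hq : ∀ i, 0 < q i)
    (c : ι → ℤ) (h : ∑ i, c i • P.root i = 0) :
    ∑ i, (c i * cof q i) • P'.root (u i) = 0 := by
  rw [sum_zero_iff hfg hroot hcoroot hq]
  have h1 : ∀ i, c i * cof q i * q i = (∏ k, q k : ℕ) * c i := by
    intro i
    rw [← cof_mul q i]
    push_cast
    ring
  simp_rw [h1, mul_smul, ← Finset.smul_sum, h, smul_zero]

theorem sum_reindex (u : ι ≃ ι') (c : ι' → ℤ) :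
    ∑ j, c j • P'.root j = ∑ i, c (u i) • P'.root (u i) :=
  (Equiv.sum_comp u (fun j => c j • P'.root j)).symm

/-- `n w_k ∈ ℕ (u S)` implies `n q_k v_k ∈ ℕ S`. -/
theorem cone_of (hroot : ∀ i : ι, f (P'.root (u i)) = (q i : ℤ) • P.root i) (hq : ∀ i, 0 < q i)
    {S : Set ι} {k : ι} {n : ℕ} (hn : 0 < n)
    (h : n • P'.root (u k) ∈ RootD.natSpan P' (u '' S)) :
    ∃ n : ℕ, 0 < n ∧ n • P.root k ∈ RootD.natSpan P S := by
  obtain ⟨c, hc, e⟩ := (mem_natSpan_iff P' _ _).1 h
  refine ⟨n * q k, Nat.mul_pos hn (hq k), ?_⟩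
  rw [mem_natSpan_iff]
  refine ⟨fun i => c (u i) * q i, fun i hi => ?_, ?_⟩
  · have : u i ∉ u '' S := fun h => hi ((Function.Injective.mem_set_image u.injective).1 h)
    simp [hc _ this]
  · rw [sum_reindex u (fun j => (c j : ℤ))] at e
    have h1 := congrArg f e
    rw [f_sum hroot (fun i => (c (u i) : ℤ)), map_nsmul, hroot] at h1
    push_cast
    rw [← h1, mul_smul, natCast_zsmul]

theorem cone_to (hfg : ∀ (m' : M') (n : N), P.toLinearMap (f m') n = P'.toLinearMap m' (g n))
    (hroot : ∀ i : ι, f (P'.root (u i)) = (q i : ℤ) • P.root i)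
    (hcoroot : ∀ i : ι, g (P.coroot i) = (q i : ℤ) • P'.coroot (u i)) (hq : ∀ i, 0 < q i)
    {S : Set ι} {k : ι} {n : ℕ} (hn : 0 < n) (h : n • P.root k ∈ RootD.natSpan P S) :
    ∃ n : ℕ, 0 < n ∧ n • P'.root (u k) ∈ RootD.natSpan P' (u '' S) := by
  classical
  obtain ⟨c, hc, e⟩ := (mem_natSpan_iff P _ _).1 h
  refine ⟨n * cof q k, Nat.mul_pos hn (cof_pos hq k), ?_⟩
  rw [mem_natSpan_iff]
  refine ⟨fun j => c (u.symm j) * cof q (u.symm j), fun j hj => ?_, ?_⟩
  · have : u.symm j ∉ S := fun h => hj ⟨_, h, u.apply_symm_apply j⟩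
    simp [hc _ this]
  · rw [sum_reindex u (fun j => ((c (u.symm j) * cof q (u.symm j) : ℕ) : ℤ))]
    simp only [Equiv.symm_apply_apply]
    have h1 := sum_zero_iff' hfg hroot hcoroot hq (fun i => (c i : ℤ) - (Pi.single k (n : ℤ) : ι → ℤ) i) (by
      simp_rw [sub_smul, Finset.sum_sub_distrib]
      rw [← e, Finset.sum_eq_single k]
      · simp
      · intro j _ hj; simp [Pi.single_eq_of_ne hj]
      · simp)
    simp_rw [sub_mul, sub_smul, Finset.sum_sub_distrib] at h1
    rw [sub_eq_zero, Finset.sum_eq_single (a := k) (f := fun x => ((Pi.single k (n : ℤ) : ι → ℤ) x * cof q x) •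
      P'.root (u x))] at h1
    · rw [Pi.single_eq_same] at h1
      push_cast
      rw [h1, ← Nat.cast_mul, natCast_zsmul]
    · intro j _ hj; simp [Pi.single_eq_of_ne hj]
    · simp

theorem linInd_iff (hfg : ∀ (m' : M') (n : N), P.toLinearMap (f m') n = P'.toLinearMap m' (g n))
    (hroot : ∀ i : ι, f (P'.root (u i)) = (q i : ℤ) • P.root i)
    (hcoroot : ∀ i : ι, g (P.coroot i) = (q i : ℤ) • P'.coroot (u i)) (hq : ∀ i, 0 < q i)
    (S : Set ι) : LinearIndepOn ℤ P.root S ↔ LinearIndepOn ℤ P'.root (u '' S) := by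
  classical
  constructor
  · intro h
    rw [linearIndepOn_iff']
    intro t c ht h0 j hj
    set c' : ι' → ℤ := fun j => if j ∈ t then c j else 0 with hc'
    have h1 : ∑ j, c' j • P'.root j = 0 := by
      rw [← h0, ← Finset.sum_subset (Finset.subset_univ t)]
      · exact Finset.sum_congr rfl fun j hj => by simp [hc', hj]
      · intro j _ hj; simp [hc', hj]
    rw [sum_reindex u, sum_zero_iff hfg hroot hcoroot hq (fun i => c' (u i))] at h1
    have h2 := coord_eq_zero h (fun i hi => by
      have : u i ∉ t := fun h => hi ((Function.Injective.mem_set_image u.injective).1 (ht h))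
      simp [hc', this]) h1
    have h3 := congrFun h2 (u.symm j)
    simp only [Equiv.apply_symm_apply, Pi.zero_apply, mul_eq_zero, hc', hj, if_true] at h3
    rcases h3 with h3 | h3
    · exact h3
    · have := hq (u.symm j)
      omega
  · intro h
    rw [linearIndepOn_iff']
    intro t c ht h0 j hj
    set c' : ι → ℤ := fun j => if j ∈ t then c j else 0 with hc'
    have h1 : ∑ j, c' j • P.root j = 0 := by
      rw [← h0, ← Finset.sum_subset (Finset.subset_univ t)]
      · exact Finset.sum_congr rfl fun j hj => by simp [hc', hj]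
      · intro j _ hj; simp [hc', hj]
    have h2 := sum_zero_iff' hfg hroot hcoroot hq _ h1
    have h3 : ∑ j : ι', (c' (u.symm j) * cof q (u.symm j)) • P'.root j = 0 := by
      rw [sum_reindex u (fun j => c' (u.symm j) * cof q (u.symm j))]
      simpa only [Equiv.symm_apply_apply] using h2
    have h4 := coord_eq_zero h (fun i hi => by
      have : u.symm i ∉ t := fun h => hi ⟨_, ht h, u.apply_symm_apply i⟩
      simp [hc', this]) h3
    have h5 := congrFun h4 (u j)
    simp only [Equiv.symm_apply_apply, Pi.zero_apply, mul_eq_zero, hc', hj, if_true] at h5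
    rcases h5 with h5 | h5
    · exact h5
    · have := cof_pos hq j
      omega

/-- The root bijection of a `p`-morphism commutes with opposites. -/
theorem map_neg (hfg : ∀ (m' : M') (n : N), P.toLinearMap (f m') n = P'.toLinearMap m' (g n))
    (hroot : ∀ i : ι, f (P'.root (u i)) = (q i : ℤ) • P.root i)
    (hcoroot : ∀ i : ι, g (P.coroot i) = (q i : ℤ) • P'.coroot (u i)) (hq : ∀ i, 0 < q i)
    [P'.IsReduced] (i : ι) : u (P.reflectionPerm i i) = P'.reflectionPerm (u i) (u i) := by
  classical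
  have := torsionFree_left P'
  set j := P.reflectionPerm i i with hj
  have hji : j ≠ i := ne_neg_idx P i
  have h1 : (q i : ℤ) • P'.root (u j) = (-(q j : ℤ)) • P'.root (u i) := by
    have h2 := (sum_zero_iff hfg hroot hcoroot hq (Pi.single j (q i : ℤ) + Pi.single i (q j : ℤ))).2 (by
      simp_rw [Pi.add_apply, add_mul, add_smul, Finset.sum_add_distrib]
      rw [Finset.sum_eq_single j, Finset.sum_eq_single i]
      · rw [Pi.single_eq_same, Pi.single_eq_same, hj, root_neg, ← hj, smul_neg, mul_comm, neg_add_cancel]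
      · intro k _ hk; simp [Pi.single_eq_of_ne hk]
      · simp
      · intro k _ hk; simp [Pi.single_eq_of_ne hk]
      · simp)
    simp_rw [Pi.add_apply, add_smul, Finset.sum_add_distrib] at h2
    rw [Finset.sum_eq_single j, Finset.sum_eq_single i, Pi.single_eq_same, Pi.single_eq_same] at h2
    · rw [neg_smul]; exact eq_neg_of_add_eq_zero_left h2
    · intro k _ hk; simp [Pi.single_eq_of_ne hk]
    · simp
    · intro k _ hk; simp [Pi.single_eq_of_ne hk]
    · simp
  have hqi : (q i : ℤ) ≠ 0 := by have := hq i; omega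
  have h2 := not_linearIndependent_of_smul_eq P' hqi h1
  rcases IsReduced.eq_or_eq_neg (P := P') (u i) (u j) h2 with h3 | h3
  · exact absurd (u.injective (P'.root.injective h3)).symm hji
  · rw [root_eq_neg_iff] at h3
    rw [h3, neg_neg_idx]

theorem isPosSys_iff (hfg : ∀ (m' : M') (n : N), P.toLinearMap (f m') n = P'.toLinearMap m' (g n))
    (hroot : ∀ i : ι, f (P'.root (u i)) = (q i : ℤ) • P.root i)
    (hcoroot : ∀ i : ι, g (P.coroot i) = (q i : ℤ) • P'.coroot (u i)) (hq : ∀ i, 0 < q i)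
    [P'.IsReduced] (S : Set ι) : RootD.IsPosSys P S ↔ RootD.IsPosSys P' (u '' S) := by
  have hmem : ∀ i, u i ∈ u '' S ↔ i ∈ S := fun i => Function.Injective.mem_set_image u.injective
  have hneg := map_neg hfg hroot hcoroot hq (u := u) (q := q)
  constructor
  · intro h
    refine ⟨?_, ?_, ?_⟩
    · rintro _ ⟨i, hi, rfl⟩
      rw [← hneg, hmem]
      exact h.disjoint hi
    · intro j
      obtain ⟨i, rfl⟩ := u.surjective j
      rw [← hneg, hmem, hmem]
      exact h.cover i
    · intro k' n hn hk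
      obtain ⟨k, rfl⟩ := u.surjective k'
      rw [hmem]
      obtain ⟨m, hm, hm'⟩ := cone_of hroot hq hn hk
      exact h.sat m hm hm'
  · intro h
    refine ⟨?_, ?_, ?_⟩
    · intro i hi
      rw [← hmem, hneg]
      exact h.disjoint ((hmem i).2 hi)
    · intro i
      rw [← hmem, ← hmem, hneg]
      exact h.cover (u i)
    · intro k n hn hk
      rw [← hmem]
      obtain ⟨m, hm, hm'⟩ := cone_to hfg hroot hcoroot hq hn hk
      exact h.sat m hm hm'

theorem isSimpleSys_iff (hfg : ∀ (m' : M') (n : N), P.toLinearMap (f m') n = P'.toLinearMap m' (g n))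
    (hroot : ∀ i : ι, f (P'.root (u i)) = (q i : ℤ) • P.root i)
    (hcoroot : ∀ i : ι, g (P.coroot i) = (q i : ℤ) • P'.coroot (u i)) (hq : ∀ i, 0 < q i)
    [P.IsReduced] [P'.IsReduced] (S : Set ι) :
    RootD.IsSimpleSys P S ↔ RootD.IsSimpleSys P' (u '' S) := by
  have hneg := map_neg hfg hroot hcoroot hq (u := u) (q := q)
  constructor
  · intro h
    refine Groth.Agent.S5446.result P' _ (fun i _ => isIndiv_of_isReduced P' i)
      ((linInd_iff hfg hroot hcoroot hq S).1 h.linInd) ?_
    intro k'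
    obtain ⟨k, rfl⟩ := u.surjective k'
    rcases h.mem_or_neg_mem k with h1 | h1
    · obtain ⟨m, hm, hm'⟩ := cone_to hfg hroot hcoroot hq one_pos (by rwa [one_smul])
      exact ⟨m, hm, Or.inl hm'⟩
    · rw [← root_neg] at h1
      obtain ⟨m, hm, hm'⟩ := cone_to hfg hroot hcoroot hq one_pos (by rwa [one_smul])
      rw [hneg, root_neg] at hm'
      exact ⟨m, hm, Or.inr hm'⟩
  · intro h
    refine Groth.Agent.S5446.result P _ (fun i _ => isIndiv_of_isReduced P i)
      ((linInd_iff hfg hroot hcoroot hq S).2 h.linInd) ?_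
    intro k
    rcases h.mem_or_neg_mem (u k) with h1 | h1
    · obtain ⟨m, hm, hm'⟩ := cone_of hroot hq one_pos (by rwa [one_smul])
      exact ⟨m, hm, Or.inl hm'⟩
    · rw [← root_neg, ← hneg] at h1
      obtain ⟨m, hm, hm'⟩ := cone_of hroot hq one_pos (by rwa [one_smul])
      rw [root_neg] at hm'
      exact ⟨m, hm, Or.inr hm'⟩

end PMor

section Dual

variable {ι M N : Type*} [AddCommGroup M] [AddCommGroup N] {P : RootPairing ι ℤ M N} [Fintype ι]
  {Δ : Set ι}

/-- Linear independence of roots implies that of the coroots. -/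
theorem linInd_coroot {S : Set ι} (h : LinearIndepOn ℤ P.root S) : LinearIndepOn ℤ P.coroot S := by
  classical
  have := torsionFree_left P
  rw [linearIndepOn_iff']
  intro t c ht h0 j hj
  set l : ι → ℕ := fun i => (P.RootForm (P.root i) (P.root i)).toNat with hl
  have hl' : ∀ i, (l i : ℤ) = P.RootForm (P.root i) (P.root i) := fun i =>
    Int.toNat_of_nonneg (rootForm_pos P i).le
  have hlpos : ∀ i, 0 < l i := fun i => by
    have := rootForm_pos P i
    have := hl' i
    omega
  set c' : ι → ℤ := fun j => if j ∈ t then c j else 0 with hc'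
  have h1 : ∑ j, c' j • P.coroot j = 0 := by
    rw [← h0, ← Finset.sum_subset (Finset.subset_univ t)]
    · exact Finset.sum_congr rfl fun j hj => by simp [hc', hj]
    · intro j _ hj; simp [hc', hj]
  set x : M := ∑ j, (c' j * cof l j) • P.root j with hx
  have h2 : (2 : ℕ) • P.Polarization x = 0 := by
    have h3 : ∀ j, (2 : ℕ) • P.Polarization ((c' j * cof l j) • P.root j) =
        ((∏ k, l k : ℕ) : ℤ) • (c' j • P.coroot j) := by
      intro j
      rw [map_smul, smul_comm, ← rootForm_self_smul_coroot, ← hl', smul_smul, smul_smul,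
        ← cof_mul l j]
      congr 1
      push_cast
      ring
    rw [hx, map_sum, Finset.smul_sum]
    simp_rw [h3, ← Finset.smul_sum, h1, smul_zero]
  have h3 : x = 0 := by
    refine P.eq_zero_of_mem_rootSpan_of_rootForm_self_eq_zero
      (Submodule.sum_mem _ fun i _ => Submodule.smul_mem _ _ (Submodule.subset_span ⟨_, rfl⟩)) ?_
    have h4 : P.toLinearMap x ((2 : ℕ) • P.Polarization x) = 0 := by rw [h2, map_zero]
    rw [map_nsmul, toLinearMap_apply_apply_Polarization, nsmul_eq_mul] at h4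
    simpa using h4
  have h4 := coord_eq_zero h (fun i hi => by
    have : i ∉ t := fun h => hi (ht h)
    simp [hc', this]) h3
  have h5 := congrFun h4 j
  simp only [Pi.zero_apply, mul_eq_zero, hc', hj, if_true] at h5
  rcases h5 with h5 | h5
  · exact h5
  · have := cof_pos hlpos j
    omega

/-- The index set of `ind(Δ^∨)`. -/
def indCo (P : RootPairing ι ℤ M N) (Δ : Set ι) : Set ι :=
  {j : ι | ∃ i ∈ Δ, (j = i ∧ RootD.IsIndiv P.flip i) ∨ (2 : ℤ) • P.coroot j = P.coroot i}

theorem indCo_linInd (hΔ : LinearIndepOn ℤ P.root Δ) : LinearIndepOn ℤ P.root (indCo P Δ) := by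
  classical
  have := torsionFree_left P
  have h1 : ∀ j : indCo P Δ, ∃ i ∈ Δ, ∃ m : ℕ, 0 < m ∧ P.root j = (m : ℤ) • P.root i ∧
      ((m = 1 ∧ RootD.IsIndiv P.flip i) ∨ m = 2) := by
    rintro ⟨j, i, hi, h | h⟩
    · exact ⟨i, hi, 1, one_pos, (congrArg P.root h.1).trans (by simp), Or.inl ⟨rfl, h.2⟩⟩
    · refine ⟨i, hi, 2, two_pos, ?_, Or.inr rfl⟩
      rw [coroot_two_smul_iff] at h
      exact h
  choose φ hφ m hm hroot hcase using h1
  have hinj : Function.Injective (fun j => (⟨φ j, hφ j⟩ : Δ)) := by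
    intro j j' hjj
    have hjj' : φ j = φ j' := congrArg Subtype.val hjj
    apply Subtype.ext
    apply P.root.injective
    rw [hroot j, hroot j', hjj']
    rcases hcase j with h | h <;> rcases hcase j' with h' | h'
    · rw [h.1, h'.1]
    · exfalso
      rw [isIndiv_flip_iff] at h
      apply h.2 j'
      rw [hroot j', hjj', h']
      rfl
    · exfalso
      rw [isIndiv_flip_iff] at h'
      apply h'.2 j
      rw [hroot j, hjj', h]
      rfl
    · rw [h, h']
  have h2 : LinearIndependent ℤ (fun j : indCo P Δ => P.root (φ j)) := hΔ.comp _ hinj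
  have h3 : LinearIndependent ℤ (fun j : indCo P Δ => P.root j) := by
    rw [linearIndependent_iff'] at h2 ⊢
    intro s c h0 j hj
    have h4 := h2 s (fun j => c j * m j) (by
      rw [← h0]
      refine Finset.sum_congr rfl fun j _ => ?_
      rw [hroot j, smul_smul]) j hj
    simp only [mul_eq_zero] at h4
    rcases h4 with h4 | h4
    · exact h4
    · have := hm j
      omega
  exact h3

theorem coroot_mem_natSpan {k : ι} (hk : k ∈ Δ) : P.coroot k ∈ RootD.natSpan P.flip (indCo P Δ) := by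
  rcases indiv_or_two_smul P.flip k with h | ⟨j, -, h⟩
  · exact AddSubmonoid.subset_closure ⟨k, ⟨k, hk, Or.inl ⟨rfl, h⟩⟩, rfl⟩
  · have h1 : P.coroot k = (2 : ℤ) • P.coroot j := h
    have h2 : P.coroot j ∈ RootD.natSpan P.flip (indCo P Δ) :=
      AddSubmonoid.subset_closure ⟨j, ⟨k, hk, Or.inr h1.symm⟩, rfl⟩
    rw [h1, two_smul]
    exact AddSubmonoid.add_mem _ h2 h2

theorem cone_coroot {k : ι} (hk : P.root k ∈ RootD.natSpan P Δ) :
    ∃ n : ℕ, 0 < n ∧ n • P.coroot k ∈ RootD.natSpan P.flip (indCo P Δ) := by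
  obtain ⟨c, hc, e⟩ := (mem_natSpan_iff P _ _).1 hk
  have hpos := rootForm_pos P k
  refine ⟨(P.RootForm (P.root k) (P.root k)).toNat, by omega, ?_⟩
  have h1 : (P.RootForm (P.root k) (P.root k)).toNat • P.coroot k =
      ∑ i, (c i * (P.RootForm (P.root i) (P.root i)).toNat) • P.coroot i := by
    rw [← natCast_zsmul, Int.toNat_of_nonneg hpos.le, rootForm_self_smul_coroot, e, map_sum,
      Finset.smul_sum]
    refine Finset.sum_congr rfl fun i _ => ?_
    rw [map_smul, smul_comm, ← rootForm_self_smul_coroot, ← natCast_zsmul]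
    push_cast
    rw [mul_smul, Int.toNat_of_nonneg (rootForm_pos P i).le]
  rw [h1]
  apply AddSubmonoid.sum_mem
  intro i _
  by_cases hi : i ∈ Δ
  · exact AddSubmonoid.nsmul_mem _ (coroot_mem_natSpan hi) _
  · rw [hc i hi]; simp

theorem isSimpleSys_indCo (hΔ : RootD.IsSimpleSys P Δ) : RootD.IsSimpleSys P.flip (indCo P Δ) := by
  refine Groth.Agent.S5446.result P.flip _ ?_ (linInd_coroot (indCo_linInd hΔ.linInd)) ?_
  · rintro j ⟨i, hi, h | h⟩
    · rw [h.1]; exact h.2
    · exact isIndiv_half P.flip h.symm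
  · intro k
    rcases hΔ.mem_or_neg_mem k with h | h
    · obtain ⟨n, hn, h1⟩ := cone_coroot h
      exact ⟨n, hn, Or.inl h1⟩
    · rw [← root_neg] at h
      obtain ⟨n, hn, h1⟩ := cone_coroot h
      rw [coroot_neg] at h1
      exact ⟨n, hn, Or.inr h1⟩

end Dual

end K221.PSys
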